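import Cfsg.Agent.H973.TwoSubPi
import Cfsg.Agent.Characters.Core
import Cfsg.Agent.H713.Van
import Cfsg.Agent.CharactersDeep.MaxInduced
import Cfsg.Agent.H671.H5Facts

/-!
# Tensor induction to the automorphism group of a power of a simple group (hub H5, helper671)

* `exists_components` : an automorphism of `T ^ ι` is a permutation of the factors and automorphisms of `T`;
* `exists_tensor` : a character `ψ` of `Aut T` gives a character of `Aut (T ^ ι)` with value `∏ ψ (x i)` at the inner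
  automorphism of `x`;
* `exists_extension_chief` : `N / M` a chief factor `≅ S ^ k`, `θ` an irreducible character of `S` which extends to
  `Aut S`; then `θ × ... × θ` (inflated to `N`) extends to `G`.
-/

set_option autoImplicit false

namespace Cfsg.Agent.H671.Tensor

open Cfsg Cfsg.Agent.Characters.Core Cfsg.Agent.H973.TwoSub

universe u v

section Comp

variable {ι : Type v} [Finite ι] [DecidableEq ι] {T : Type u} [Group T] [IsSimpleGroup T]

theorem exists_components (hna : ¬ IsMulCommutative T) (φ : MulAut (ι → T)) :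
    ∃ (σ : Equiv.Perm ι) (a : ι → MulAut T), ∀ (x : ι → T) (i : ι), φ x (σ i) = a i (x i) := by
  obtain ⟨σ, hσ⟩ := exists_perm hna φ
  obtain ⟨τ, hτ⟩ := exists_perm hna φ.symm
  have hone : ∀ (x : ι → T) (i : ι), φ x (σ i) = φ (Pi.mulSingle i (x i)) (σ i) := by
    intro x i
    have h1 : (φ (x * (Pi.mulSingle i (x i))⁻¹)) (σ i) = 1 := by
      rw [hσ]
      simp
    rw [map_mul, map_inv, Pi.mul_apply, Pi.inv_apply, mul_inv_eq_one] at h1
    exact h1
  let f : ι → T →* T := fun i =>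
    (Pi.evalMonoidHom _ (σ i)).comp (φ.toMonoidHom.comp (MonoidHom.mulSingle (fun _ => T) i))
  have hf : ∀ i t, f i t = φ (Pi.mulSingle i t) (σ i) := fun i t => rfl
  have hinj : ∀ i, Function.Injective (f i) := by
    intro i
    rw [injective_iff_map_eq_one]
    intro t ht
    rw [hf, hσ] at ht
    simpa using ht
  have hsurj : ∀ i, Function.Surjective (f i) := by
    intro i s
    refine ⟨φ.symm (Pi.mulSingle (σ i) s) i, ?_⟩
    have h1 := hone (φ.symm (Pi.mulSingle (σ i) s)) i
    rw [MulEquiv.apply_symm_apply, Pi.mulSingle_eq_same] at h1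
    rw [hf, ← h1]
  refine ⟨σ, fun i => MulEquiv.ofBijective (f i) ⟨hinj i, hsurj i⟩, fun x i => ?_⟩
  rw [hone]
  rfl

omit [Finite ι] in
theorem components_unique {φ : MulAut (ι → T)} {σ σ' : Equiv.Perm ι} {a a' : ι → MulAut T}
    (h : ∀ (x : ι → T) (i : ι), φ x (σ i) = a i (x i)) (h' : ∀ (x : ι → T) (i : ι), φ x (σ' i) = a' i (x i)) :
    σ = σ' ∧ a = a' := by
  have h1 : ∀ i, σ i = σ' i := by
    intro i
    obtain ⟨t, ht⟩ := exists_ne (1 : T)
    by_contra hne
    obtain ⟨j, hj⟩ := σ'.surjective (σ i)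
    have hji : j ≠ i := by
      rintro rfl
      exact hne hj.symm
    have h2 := h (Pi.mulSingle i t) i
    rw [← hj, h', Pi.mulSingle_eq_of_ne hji, map_one, Pi.mulSingle_eq_same] at h2
    apply ht
    have h3 := h2.symm
    rwa [map_eq_one_iff _ (a i).injective] at h3
  have h2 : σ = σ' := Equiv.ext h1
  refine ⟨h2, funext fun i => MulEquiv.ext fun t => ?_⟩
  have h3 := h (Pi.mulSingle i t) i
  have h4 := h' (Pi.mulSingle i t) i
  rw [← h2, h3] at h4
  simpa using h4

end Comp

section Rep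

variable {ι : Type v} [Fintype ι] [DecidableEq ι] {T : Type u} [Group T] [IsSimpleGroup T]

/-- the permutation of the factors -/
noncomputable def perm (hna : ¬ IsMulCommutative T) (φ : MulAut (ι → T)) : Equiv.Perm ι :=
  (exists_components hna φ).choose

/-- the automorphisms of the factors -/
noncomputable def aut (hna : ¬ IsMulCommutative T) (φ : MulAut (ι → T)) : ι → MulAut T :=
  (exists_components hna φ).choose_spec.choose

theorem perm_spec (hna : ¬ IsMulCommutative T) (φ : MulAut (ι → T)) (x : ι → T) (i : ι) :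
    φ x (perm hna φ i) = aut hna φ i (x i) :=
  (exists_components hna φ).choose_spec.choose_spec x i

theorem perm_aut_eq (hna : ¬ IsMulCommutative T) {φ : MulAut (ι → T)} {σ : Equiv.Perm ι} {a : ι → MulAut T}
    (h : ∀ (x : ι → T) (i : ι), φ x (σ i) = a i (x i)) : perm hna φ = σ ∧ aut hna φ = a :=
  components_unique (perm_spec hna φ) h

theorem mul_spec (hna : ¬ IsMulCommutative T) (φ ψ : MulAut (ι → T)) :
    perm hna (φ * ψ) = perm hna φ * perm hna ψ ∧
      aut hna (φ * ψ) = fun i => aut hna φ (perm hna ψ i) * aut hna ψ i := by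
  refine perm_aut_eq hna fun x i => ?_
  show φ (ψ x) (perm hna φ (perm hna ψ i)) = aut hna φ (perm hna ψ i) (aut hna ψ i (x i))
  rw [perm_spec, perm_spec]

theorem one_spec (hna : ¬ IsMulCommutative T) :
    perm hna (1 : MulAut (ι → T)) = 1 ∧ aut hna (1 : MulAut (ι → T)) = fun _ => 1 :=
  perm_aut_eq hna fun _ _ => rfl

theorem conj_spec (hna : ¬ IsMulCommutative T) (x : ι → T) :
    perm hna (MulAut.conj x) = 1 ∧ aut hna (MulAut.conj x) = fun i => MulAut.conj (x i) :=
  perm_aut_eq hna fun _ _ => rfl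

variable {d : ℕ} (ρ : Representation ℂ (MulAut T) (Fin d → ℂ))

/-- the matrix of the tensor induced representation -/
noncomputable def mat (hna : ¬ IsMulCommutative T) (φ : MulAut (ι → T)) : Matrix (ι → Fin d) (ι → Fin d) ℂ :=
  fun f g => ∏ i, LinearMap.toMatrix' (ρ (aut hna φ i)) (f (perm hna φ i)) (g i)

theorem mat_one (hna : ¬ IsMulCommutative T) : mat ρ hna (1 : MulAut (ι → T)) = 1 := by
  ext f g
  obtain ⟨h1, h2⟩ := one_spec (ι := ι) hna
  unfold mat
  rw [h1, h2]
  simp only [map_one, Equiv.Perm.coe_one, id_eq]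
  have h3 : LinearMap.toMatrix' (1 : (Fin d → ℂ) →ₗ[ℂ] (Fin d → ℂ)) = 1 := LinearMap.toMatrix'_one
  rw [h3]
  simp only [Matrix.one_apply]
  by_cases hfg : f = g
  · subst hfg
    simp
  · rw [if_neg hfg]
    obtain ⟨i, hi⟩ := Function.ne_iff.1 hfg
    exact Finset.prod_eq_zero (Finset.mem_univ i) (if_neg hi)

theorem mat_mul (hna : ¬ IsMulCommutative T) (φ ψ : MulAut (ι → T)) :
    mat ρ hna (φ * ψ) = mat ρ hna φ * mat ρ hna ψ := by
  ext f g
  obtain ⟨h1, h2⟩ := mul_spec hna φ ψ
  rw [Matrix.mul_apply]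
  unfold mat
  rw [h1, h2]
  simp only [map_mul, Equiv.Perm.coe_mul, Function.comp_apply]
  have h3 : ∀ i, LinearMap.toMatrix' (ρ (aut hna φ (perm hna ψ i)) * ρ (aut hna ψ i)) (f (perm hna φ (perm hna ψ i))) (g i)
      = ∑ j : Fin d, LinearMap.toMatrix' (ρ (aut hna φ (perm hna ψ i))) (f (perm hna φ (perm hna ψ i))) j *
        LinearMap.toMatrix' (ρ (aut hna ψ i)) j (g i) := by
    intro i
    rw [LinearMap.toMatrix'_mul, Matrix.mul_apply]
  rw [Finset.prod_congr rfl fun i _ => h3 i, Finset.prod_univ_sum, Fintype.piFinset_univ]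
  refine Finset.sum_bij' (fun h _ => fun k => h ((perm hna ψ).symm k)) (fun h _ => fun i => h (perm hna ψ i))
    (fun _ _ => Finset.mem_univ _) (fun _ _ => Finset.mem_univ _) (fun h _ => by funext i; simp)
    (fun h _ => by funext i; simp) ?_
  intro h _
  rw [Finset.prod_mul_distrib]
  congr 1
  · rw [← Equiv.prod_comp (perm hna ψ) (fun i => LinearMap.toMatrix' (ρ (aut hna φ i)) (f (perm hna φ i))
      (h ((perm hna ψ).symm i)))]
    simp
  · simp

/-- the tensor induced representation -/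
noncomputable def rep (hna : ¬ IsMulCommutative T) : Representation ℂ (MulAut (ι → T)) ((ι → Fin d) → ℂ) where
  toFun φ := Matrix.toLin' (mat ρ hna φ)
  map_one' := by rw [mat_one, Matrix.toLin'_one]; rfl
  map_mul' φ ψ := by rw [mat_mul, Matrix.toLin'_mul]; rfl

theorem rep_character (hna : ¬ IsMulCommutative T) (x : ι → T) :
    (rep (ι := ι) ρ hna).character (MulAut.conj x) = ∏ i, ρ.character (MulAut.conj (x i)) := by
  show LinearMap.trace ℂ _ (Matrix.toLin' (mat ρ hna (MulAut.conj x))) = _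
  rw [Matrix.trace_toLin'_eq]
  obtain ⟨h1, h2⟩ := conj_spec hna x
  have h0 : ∀ f : ι → Fin d, mat ρ hna (MulAut.conj x) f f =
      ∏ i, LinearMap.toMatrix' (ρ (MulAut.conj (x i))) (f i) (f i) := by
    intro f
    unfold mat
    rw [h1, h2]
    rfl
  show ∑ f : ι → Fin d, mat ρ hna (MulAut.conj x) f f = _
  rw [Finset.sum_congr rfl fun f _ => h0 f]
  have h3 : ∀ i, ρ.character (MulAut.conj (x i)) = ∑ j : Fin d, LinearMap.toMatrix' (ρ (MulAut.conj (x i))) j j := by
    intro i
    show LinearMap.trace ℂ _ _ = _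
    rw [LinearMap.trace_eq_matrix_trace ℂ (Pi.basisFun ℂ (Fin d)), LinearMap.toMatrix_eq_toMatrix']
    rfl
  rw [Finset.prod_congr rfl fun i _ => h3 i, Finset.prod_univ_sum, Fintype.piFinset_univ]

theorem exists_tensor (hna : ¬ IsMulCommutative T) {ψ : MulAut T → ℂ} (hψ : IsCharacter (MulAut T) ψ) :
    ∃ Ψ : MulAut (ι → T) → ℂ, IsCharacter (MulAut (ι → T)) Ψ ∧
      ∀ x : ι → T, Ψ (MulAut.conj x) = ∏ i, ψ (MulAut.conj (x i)) := by
  obtain ⟨d, ρ, rfl⟩ := hψ
  exact ⟨_, isCharacter_of_rep (rep ρ hna), fun x => rep_character ρ hna x⟩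

end Rep

open Cfsg.Agent.H671.H5 in
/-- **Extension of `θ × ... × θ`** from a normal subgroup `N ≅ S ^ ι` of `G`, if `θ` extends to `Aut S`. -/
theorem exists_extension {G : Type v} [Group G] [Finite G] (N : Subgroup G) [N.Normal] {S : Type u} [Group S] [Finite S]
    [IsSimpleGroup S] (hna : ¬ IsMulCommutative S) {ι : Type*} [Fintype ι] (e : N ≃* (ι → S)) {θ : IrrCharacter S}
    (hθ : ExtAut θ) : ∃ χ : IrrCharacter G, ∀ n : N, (χ : G → ℂ) n = ∏ i, (θ : S → ℂ) (e n i) := by
  classical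
  obtain ⟨ψ, hψ⟩ := hθ
  obtain ⟨Ψ, hΨ, hΨx⟩ := exists_tensor (ι := ι) hna (isIrr_isCharacter ψ.2)
  let c : G →* MulAut (ι → S) := (MulAut.congr e).toMonoidHom.comp (MulAut.conjNormal (H := N))
  have hc : ∀ n : N, c n = MulAut.conj (e n) := by
    intro n
    ext x
    show e (MulAut.conjNormal (n : G) (e.symm x)) _ = _
    have h1 : MulAut.conjNormal (n : G) (e.symm x) = n * e.symm x * n⁻¹ := by
      apply Subtype.ext
      rw [MulAut.conjNormal_apply]
      rfl
    rw [h1, map_mul, map_mul, map_inv, MulEquiv.apply_symm_apply]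
    rfl
  have h1 : IsCharacter G (Ψ ∘ c) := isCharacter_comp c hΨ
  have h2 : ∀ n : N, (Ψ ∘ c) n = ∏ i, (θ : S → ℂ) (e n i) := by
    intro n
    rw [Function.comp_apply, hc, hΨx]
    exact Finset.prod_congr rfl fun i _ => hψ _
  have h3 : IsIrrCharacter N ((Ψ ∘ c) ∘ N.subtype) := by
    have h4 : (Ψ ∘ c) ∘ N.subtype = (fun n : ι → S => ∏ i, (θ : S → ℂ) (n i)) ∘ (e : N →* (ι → S)) := by
      funext n
      exact h2 n
    rw [h4]
    exact isIrr_comp (e : N →* (ι → S)) e.surjective (Cfsg.Agent.H713.isIrr_pi θ.2)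
  exact ⟨⟨Ψ ∘ c, Cfsg.Agent.CharactersDeep.MaxInduced.isIrr_of_comp N.subtype h1 h3⟩, h2⟩

end Cfsg.Agent.H671.Tensor
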