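import Cfsg.Agent.H671.H5Facts
import Cfsg.Agent.H912.KnownSplit
import Cfsg.Agent.H761.LieExt
import Cfsg.Agent.H875.AltCop
import Cfsg.Agent.H235.ExtRows
import Cfsg.Agent.H580.LieBad

/-!
# Assembly of the facts `FactExt` and `FactCop` (hub H5, helper671)

`KnownAll` : every finite simple group is known (S0000), taken as a hypothesis.
* `factExt` : `FactExt`, unconditional;
* `CopRow S` : the disjunction of `FactCop`; `factCop_of_rows` : `FactCop` from the rows of the sporadic groups and the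
  Tits group.
-/

set_option autoImplicit false

namespace Cfsg.Agent.H671.FactRows

open Cfsg Cfsg.Agent.H671.H5

universe u

/-- Every finite simple group is known. -/
def KnownAll : Prop := ∀ (X : Type u) [Group X] [Finite X] [IsSimpleGroup X], IsKnownSimple' X

/-- The conclusion of `FactCop`. -/
def CopRow (S : Type u) [Group S] : Prop :=
  (∃ α β : Cfsg.IrrCharacter S, Cfsg.charDegree (α : S → ℂ) ≠ 1 ∧ Cfsg.charDegree (β : S → ℂ) ≠ 1 ∧
    Nat.Coprime (Cfsg.charDegree (α : S → ℂ)) (Cfsg.charDegree (β : S → ℂ)) ∧ ExtAut α ∧ ExtAut β) ∨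
  ∃ α : Cfsg.IrrCharacter S, IsPrimePow (Cfsg.charDegree (α : S → ℂ)) ∧ ExtAut α

theorem not_prime_cyclic {S : Type u} [Group S] (hna : ¬ IsMulCommutative S) : ¬ IsPrimeCyclic S := by
  intro h
  apply hna
  have : Fact (Nat.card S).Prime := ⟨h⟩
  have h1 : IsCyclic S := isCyclic_of_prime_card rfl
  exact ⟨⟨fun a b => (IsCyclic.commGroup (α := S)).mul_comm a b⟩⟩

/-- The four kinds of nonabelian simple groups. -/
theorem split (hK : KnownAll.{u}) (S : Type u) [Group S] [Finite S] [IsSimpleGroup S] (hna : ¬ IsMulCommutative S) :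
    IsAlternating S ∨ (∃ r, r.Prime ∧ IsLieTypeChar r S) ∨ Lie.IsoTits S ∨ IsSporadicGroup S :=
  H912.Known.known_split (hK S) (not_prime_cyclic hna)

theorem prime_dvd_of_lie {S : Type u} [Group S] [Finite S] {p : ℕ} (hp : p.Prime) [IsSimpleGroup S]
    (h : IsLieTypeChar p S) : p ∣ Nat.card S := by
  have : Fact p.Prime := ⟨hp⟩
  obtain ⟨P, U, ⟨s, hs⟩, hU⟩ := H979.LieSplit.hasSplit_of_isLieTypeChar hp h
  exact H580.LieBad.dvd_card hU hs

theorem lie_row {S : Type u} [Group S] [Finite S] [IsSimpleGroup S] (hna : ¬ IsMulCommutative S) {r : ℕ} (hr : r.Prime)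
    (h : IsLieTypeChar r S) : ∃ θ : IrrCharacter S, IsPrimePow (Cfsg.charDegree (θ : S → ℂ)) ∧ ExtAut θ := by
  have : Fact r.Prime := ⟨hr⟩
  obtain ⟨θ, h1, h2⟩ := H761.LieExt.lie_ext hna h
  refine ⟨θ, ?_, h2⟩
  rw [h1]
  refine hr.isPrimePow.pow ?_
  have h3 := prime_dvd_of_lie hr h
  exact (Nat.Prime.factorization_pos_of_dvd hr Nat.card_pos.ne' h3).ne'

/-- **`FactExt`.** -/
theorem factExt (hK : KnownAll.{u}) : FactExt.{u} := by
  intro S iS iF iSi hna
  rcases split hK S hna with ⟨n, hn, h⟩ | ⟨r, hr, h⟩ | h | h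
  · exact (H875.AltCop.alt_facts (fun p _ S _ _ _ hna h => H761.LieExt.lie_ext hna h) hn hna h).2
  · obtain ⟨θ, h1, h2⟩ := lie_row hna hr h
    exact ⟨θ, h1.ne_one, h2⟩
  · exact H235.ExtOut.ext_tits hna h
  · exact H235.ExtOut.ext_sporadic hna h

/-- **`FactCop`** from the rows of the sporadic groups and the Tits group. -/
theorem factCop_of_rows (hK : KnownAll.{u})
    (hrow : ∀ (S : Type u) [Group S] [Finite S] [IsSimpleGroup S], ¬ IsMulCommutative S →
      (Lie.IsoTits S ∨ IsSporadicGroup S) → CopRow S) : FactCop.{u} := by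
  intro S iS iF iSi hna
  rcases split hK S hna with ⟨n, hn, h⟩ | ⟨r, hr, h⟩ | h | h
  · exact (H875.AltCop.alt_facts (fun p _ S _ _ _ hna h => H761.LieExt.lie_ext hna h) hn hna h).1
  · exact Or.inr (lie_row hna hr h)
  · exact hrow S hna (Or.inl h)
  · exact hrow S hna (Or.inr h)

end Cfsg.Agent.H671.FactRows
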