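import Cfsg.Agent.S5914
import Cfsg.Prelude.Def_DegreeGraph

/-!
# The frame of the reductions for non-solvable groups (hub H5, helper671)

* `exists_residual` : a finite group `G` has a perfect normal subgroup `N` with `G / N` solvable;
* `exists_minNormal` : a nontrivial normal subgroup contains a minimal one;
* `minNormal_pi` : a perfect minimal normal subgroup is `≅ S ^ k`, `S` non-abelian simple;
* `exists_top` : `G` not solvable: `M < N` normal, `N` perfect, `G / N` solvable, `N / M ≅ S ^ k` a chief factor.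
-/

set_option autoImplicit false

namespace Cfsg.Agent.H671.Frame

open Subgroup
open scoped commutatorElement

universe u

variable {G : Type u} [Group G]

theorem exists_residual (G : Type u) [Group G] [Finite G] : ∃ N : Subgroup G, ∃ _ : N.Normal, ⁅N, N⁆ = N ∧ Group.IsSolvable (G ⧸ N) := by
  classical
  have hfin : Finite (Subgroup G) := inferInstance
  let P : Subgroup G → Prop := fun N => ∃ _ : N.Normal, Group.IsSolvable (G ⧸ N)
  have htop : P ⊤ := by
    refine ⟨inferInstance, ?_⟩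
    have : Subsingleton (G ⧸ (⊤ : Subgroup G)) := QuotientGroup.subsingleton_quotient_top
    infer_instance
  obtain ⟨N, hN, hmin⟩ : ∃ N, P N ∧ ∀ K, P K → K ≤ N → K = N := by
    obtain ⟨N, hN⟩ := Set.Finite.exists_minimal (Set.toFinite {N : Subgroup G | P N}) ⟨⊤, htop⟩
    exact ⟨N, hN.1, fun K hK hKN => le_antisymm hKN (hN.2 hK hKN)⟩
  obtain ⟨hNn, hNs⟩ := hN
  refine ⟨N, hNn, ?_, hNs⟩
  have hle : ⁅N, N⁆ ≤ N := Subgroup.commutator_le_right N N
  apply hmin _ _ hle
  refine ⟨inferInstance, ?_⟩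
  -- `G / [N, N]` is solvable
  let f : (G ⧸ ⁅N, N⁆) →* (G ⧸ N) := QuotientGroup.map _ _ (MonoidHom.id G) hle
  have hker : Group.IsSolvable f.ker := by
    have hcomm : ∀ a b : f.ker, a * b = b * a := by
      rintro ⟨a, ha⟩ ⟨b, hb⟩
      apply Subtype.ext
      obtain ⟨x, rfl⟩ := QuotientGroup.mk_surjective a
      obtain ⟨y, rfl⟩ := QuotientGroup.mk_surjective b
      have hx : x ∈ N := by
        rw [MonoidHom.mem_ker] at ha
        exact (QuotientGroup.eq_one_iff x).1 ha
      have hy : y ∈ N := by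
        rw [MonoidHom.mem_ker] at hb
        exact (QuotientGroup.eq_one_iff y).1 hb
      show (QuotientGroup.mk x : G ⧸ ⁅N, N⁆) * QuotientGroup.mk y = QuotientGroup.mk y * QuotientGroup.mk x
      rw [← QuotientGroup.mk_mul, ← QuotientGroup.mk_mul, QuotientGroup.eq]
      have h1 : (x * y)⁻¹ * (y * x) = ⁅y⁻¹, x⁻¹⁆ := by
        rw [commutatorElement_def]; group
      rw [h1]
      exact Subgroup.commutator_mem_commutator (N.inv_mem hy) (N.inv_mem hx)
    let _ : CommGroup f.ker := { (inferInstance : Group f.ker) with mul_comm := hcomm }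
    infer_instance
  exact Group.isSolvable_of_ker_le_range f.ker.subtype f (by simp)

theorem exists_minNormal [Finite G] {N : Subgroup G} (hN : N.Normal) (h : N ≠ ⊥) :
    ∃ K : Subgroup G, K.Normal ∧ K ≤ N ∧ K ≠ ⊥ ∧ ∀ L : Subgroup G, L.Normal → L ≤ K → L = ⊥ ∨ L = K := by
  classical
  have hfin : Finite (Subgroup G) := inferInstance
  obtain ⟨K, hK⟩ := Set.Finite.exists_minimal (Set.toFinite {K : Subgroup G | K.Normal ∧ K ≤ N ∧ K ≠ ⊥})
    ⟨N, hN, le_refl _, h⟩
  refine ⟨K, hK.1.1, hK.1.2.1, hK.1.2.2, fun L hL hLK => ?_⟩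
  by_cases h0 : L = ⊥
  · exact Or.inl h0
  · exact Or.inr (le_antisymm hLK (hK.2 ⟨hL, hLK.trans hK.1.2.1, h0⟩ hLK))

theorem minNormal_pi [Finite G] {N : Subgroup G} (hN : N.Normal) (h : N ≠ ⊥)
    (hmin : ∀ L : Subgroup G, L.Normal → L ≤ N → L = ⊥ ∨ L = N) (hna : ¬ IsMulCommutative N) :
    ∃ (S : Type) (_ : Group S) (_ : IsSimpleGroup S) (k : ℕ), 1 ≤ k ∧ ¬ IsMulCommutative S ∧ Nonempty (N ≃* (Fin k → S)) := by
  have hnt : Nontrivial N := (Subgroup.nontrivial_iff_ne_bot N).2 h
  obtain ⟨S, iS, iS', k, hk, ⟨e⟩⟩ := (S5914.result (G := N)).1 (by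
    intro H hH
    have h1 : (H.map N.subtype).Normal := inferInstance
    rcases hmin _ h1 (Subgroup.map_subtype_le H) with h2 | h2
    · left
      rwa [Subgroup.map_eq_bot_iff_of_injective _ N.subtype_injective] at h2
    · right
      rw [eq_top_iff]
      rintro ⟨x, hx⟩ -
      rw [← h2] at hx
      obtain ⟨y, hy, hyx⟩ := hx
      have : y = ⟨x, by rw [← hyx]; exact y.2⟩ := Subtype.ext hyx
      rwa [← this])
  refine ⟨S, iS, iS', k, hk, ?_, ⟨e⟩⟩
  intro hS
  apply hna
  refine ⟨⟨fun a b => e.injective ?_⟩⟩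
  rw [map_mul, map_mul]
  funext i
  exact hS.1.1 _ _

/-- The top non-abelian chief factor of a non-solvable group. -/
theorem exists_top [Finite G] (hG : ¬ Group.IsSolvable G) :
    ∃ (N M : Subgroup G) (_ : N.Normal) (_ : M.Normal), M < N ∧ ⁅N, N⁆ = N ∧ Group.IsSolvable (G ⧸ N) ∧
      (∀ K : Subgroup G, K.Normal → M ≤ K → K ≤ N → K = M ∨ K = N) ∧
      ∃ (S : Type) (_ : Group S) (_ : IsSimpleGroup S) (k : ℕ), 1 ≤ k ∧ ¬ IsMulCommutative S ∧
        Nonempty (N.map (QuotientGroup.mk' M) ≃* (Fin k → S)) := by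
  classical
  obtain ⟨N, hN, hperf, hsol⟩ := exists_residual G
  have hN1 : N ≠ ⊥ := by
    rintro rfl
    apply hG
    exact Group.isSolvable_of_surjective (f := ((QuotientGroup.quotientBot : G ⧸ (⊥ : Subgroup G) ≃* G) : (G ⧸ (⊥ : Subgroup G)) →* G))
      (QuotientGroup.quotientBot : G ⧸ (⊥ : Subgroup G) ≃* G).surjective
  have hfin : Finite (Subgroup G) := inferInstance
  obtain ⟨M, hM⟩ := Set.Finite.exists_maximal (Set.toFinite {K : Subgroup G | K.Normal ∧ K < N})
    ⟨⊥, inferInstance, bot_lt_iff_ne_bot.2 hN1⟩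
  have hMn : M.Normal := hM.1.1
  have hMN : M < N := hM.1.2
  have hchief : ∀ K : Subgroup G, K.Normal → M ≤ K → K ≤ N → K = M ∨ K = N := by
    intro K hK h1 h2
    rcases eq_or_lt_of_le h2 with h3 | h3
    · exact Or.inr h3
    · exact Or.inl (le_antisymm (hM.2 ⟨hK, h3⟩ h1) h1)
  refine ⟨N, M, hN, hMn, hMN, hperf, hsol, hchief, ?_⟩
  set Nb : Subgroup (G ⧸ M) := N.map (QuotientGroup.mk' M) with hNb
  have hNbn : Nb.Normal := Subgroup.Normal.map hN _ (QuotientGroup.mk'_surjective M)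
  have hcomap : Nb.comap (QuotientGroup.mk' M) = N := by
    rw [hNb, Subgroup.comap_map_eq, QuotientGroup.ker_mk']
    exact sup_eq_left.2 hMN.le
  have hNb1 : Nb ≠ ⊥ := by
    intro h
    rw [hNb, Subgroup.map_eq_bot_iff, QuotientGroup.ker_mk'] at h
    exact absurd hMN (not_lt_of_ge h)
  have hperf' : ⁅Nb, Nb⁆ = Nb := by
    rw [hNb, ← Subgroup.map_commutator, hperf]
  refine minNormal_pi hNbn hNb1 ?_ ?_
  · intro L hL hLN
    have h1 : (L.comap (QuotientGroup.mk' M)).Normal := inferInstance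
    have h2 : M ≤ L.comap (QuotientGroup.mk' M) := by
      have := Subgroup.ker_le_comap (QuotientGroup.mk' M) L
      rwa [QuotientGroup.ker_mk'] at this
    have h3 : L.comap (QuotientGroup.mk' M) ≤ N := by
      rw [← hcomap]
      exact Subgroup.comap_mono hLN
    have h4 : (L.comap (QuotientGroup.mk' M)).map (QuotientGroup.mk' M) = L :=
      Subgroup.map_comap_eq_self_of_surjective (QuotientGroup.mk'_surjective M) L
    rcases hchief _ h1 h2 h3 with h5 | h5
    · left
      rw [← h4, h5, Subgroup.map_eq_bot_iff, QuotientGroup.ker_mk']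
    · right
      rw [← h4, h5]
  · intro hc
    apply hNb1
    rw [← hperf', Subgroup.commutator_eq_bot_iff_le_centralizer]
    intro x hx y hy
    exact congrArg Subtype.val (hc.1.1 (⟨y, hy⟩ : Nb) ⟨x, hx⟩)

end Cfsg.Agent.H671.Frame
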