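import Cfsg.Agent.H671.GraphAll
import Cfsg.Agent.H664.R1.U3T34
import Cfsg.Agent.H477.HC.Small
import Cfsg.Agent.H996.Deg.ExcConn
import Cfsg.Agent.H115.HC.Rows
import Cfsg.Agent.H678.DG.Basic

/-!
# The graph facts of the nonsporadic groups (hub H5, helper671)

* `rest` : `Rest` is discharged except for `PSp(6,2)` (`TSp62`) and the Tits group;
* `FactDia`, `factDia` : if the degree graph of a simple group other than `PSL(2,F)` is connected then it has diameter
  at most three.
-/

set_option autoImplicit false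

namespace Cfsg.Agent.H671.GraphAsm

open Cfsg Cfsg.Agent.H671.H5

universe u

theorem g2 {S : Type u} [Group S] [Finite S] [hs : IsSimpleGroup S] (hna : ¬ IsMulCommutative S)
    (h : Lie.IsoChevG2 S) : GFacts S :=
  ⟨H996.Deg.ExcConn.conn_G2 h hs hna, fun _ hp _ hq _ hr h1 h2 h3 => H115.HC.Rows.ind_G2 S h hp hq hr h1 h2 h3,
    H115.HC.Rows.tri_G2 S h⟩

theorem d4 {S : Type u} [Group S] [Finite S] [hs : IsSimpleGroup S] (hna : ¬ IsMulCommutative S)
    (h : Lie.Iso3D4 S) : GFacts S :=
  ⟨H996.Deg.ExcConn.conn_3D4 h hs hna, fun _ hp _ hq _ hr h1 h2 h3 => H115.HC.Rows.ind_3D4 S h hp hq hr h1 h2 h3,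
    H115.HC.Rows.tri_3D4 S h⟩

theorem rest (h62 : H477.HC.TSp62)
    (ht : ∀ (S : Type u) [Group S] [Finite S] [IsSimpleGroup S], Lie.IsoTits S → GFacts S) : Rest.{u} where
  u34 := H664.R1.U3.triU34
  sp43 := H477.HC.tsp43
  sp62 := h62
  sp63 := H477.HC.rsp63
  o8m := H477.HC.ro8m
  g2 := fun _ _ _ _ hna _ h => g2 hna h
  d4 := fun _ _ _ _ hna _ h => d4 hna h
  tits := ht

/-- A connected degree graph of a simple group other than `PSL(2,F)` has diameter at most three. -/
def FactDia : Prop := ∀ (S : Type u) [Group S] [Finite S] [IsSimpleGroup S], ¬ IsMulCommutative S → ¬ IsL2 S →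
  ((degreeGraph S).induce (degreePrimes S)).Connected → ∀ a b : ↥(degreePrimes S),
    ∃ w : ((degreeGraph S).induce (degreePrimes S)).Walk a b, w.length ≤ 3

theorem GFacts.dia {S : Type u} [Group S] (h : GFacts S) (a b : ↥(degreePrimes S)) :
    ∃ w : ((degreeGraph S).induce (degreePrimes S)).Walk a b, w.length ≤ 3 :=
  H678.DG.Facts.dia ⟨h.conn, h.ind, h.tri⟩ a b

theorem factDia (hK : KnownAll.{u}) (hH : Herzog.{u}) (R : Rest.{u})
    (hs : ∀ (S : Type u) [Group S] [Finite S] [IsSimpleGroup S], IsSporadicGroup S →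
      ((degreeGraph S).induce (degreePrimes S)).Connected → ∀ a b : ↥(degreePrimes S),
        ∃ w : ((degreeGraph S).induce (degreePrimes S)).Walk a b, w.length ≤ 3) : FactDia.{u} := by
  intro S _ _ _ hna hL hc
  rcases graph_split hK hH R S hna hL with h | h
  · exact h.dia
  · exact hs S h hc

end Cfsg.Agent.H671.GraphAsm
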