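import Cfsg.Agent.H671.Frame
import Cfsg.Agent.H671.Tensor
import Cfsg.Agent.H670.PSolv
import Cfsg.Agent.S4456

/-!
# S4910: reduction to simple groups (hub H5, helper671)

`coprime_of_factCop` : the fact `FactCop` (characters of simple groups which extend to the automorphism group)
implies that every finite non-solvable group has two non-linear irreducible characters of coprime degrees.
-/

set_option autoImplicit false

namespace Cfsg.Agent.H671.CopRed

open Cfsg Cfsg.Agent.Characters.Core Cfsg.Agent.Blocks.Knorr Cfsg.Agent.H671.H5 Cfsg.Agent.H671.Tensor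
  Cfsg.Agent.H671.Frame

universe u v w

theorem charDegree_of_eq {G : Type u} [Group G] {χ : G → ℂ} {n : ℕ} (h : χ 1 = n) : charDegree χ = n := by
  rw [charDegree, h, Complex.natCast_re, Nat.floor_natCast]

/-- The irreducible character of `G` obtained from a character of `S` which extends to `Aut S`, when `G / M` has a
normal subgroup `≅ S ^ k`. -/
theorem exists_power {G : Type u} [Group G] [Finite G] (M : Subgroup G) [M.Normal] (Nb : Subgroup (G ⧸ M)) [Nb.Normal]
    {S : Type v} [Group S] [Finite S] [IsSimpleGroup S] (hna : ¬ IsMulCommutative S) {k : ℕ} (e : Nb ≃* (Fin k → S))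
    {θ : IrrCharacter S} (hθ : ExtAut θ) : ∃ χ : IrrCharacter G,
      charDegree (χ : G → ℂ) = charDegree (θ : S → ℂ) ^ k ∧
      ∀ (x : G) (hx : (x : G ⧸ M) ∈ Nb), (χ : G → ℂ) x = ∏ i, (θ : S → ℂ) (e ⟨(x : G ⧸ M), hx⟩ i) := by
  obtain ⟨χ, hχ⟩ := exists_extension Nb hna e hθ
  refine ⟨⟨(χ : G ⧸ M → ℂ) ∘ (QuotientGroup.mk' M), isIrr_comp (QuotientGroup.mk' M) (QuotientGroup.mk'_surjective M) χ.2⟩,
    ?_, fun x hx => hχ ⟨(x : G ⧸ M), hx⟩⟩
  apply charDegree_of_eq
  show (χ : G ⧸ M → ℂ) ((QuotientGroup.mk' M) 1) = _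
  rw [map_one]
  have h1 := hχ 1
  rw [map_one] at h1
  have h2 : ((1 : Nb) : G ⧸ M) = 1 := rfl
  rw [h2] at h1
  rw [h1]
  simp only [Pi.one_apply, Finset.prod_const, Finset.card_univ, Fintype.card_fin]
  rw [charDegree_eq θ.2]
  push_cast
  rfl

theorem coprime_of_factCop (hF : FactCop.{0}) {G : Type u} [Group G] [Finite G] (hG : ¬ Group.IsSolvable G) :
    ∃ χ ψ : IrrCharacter G, charDegree (χ : G → ℂ) ≠ 1 ∧ charDegree (ψ : G → ℂ) ≠ 1 ∧
      Nat.Coprime (charDegree (χ : G → ℂ)) (charDegree (ψ : G → ℂ)) := by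
  obtain ⟨N, M, hN, hM, hMN, hperf, -, -, S, iS, iS', k, hk, hna, ⟨e⟩⟩ := exists_top hG
  set Nb : Subgroup (G ⧸ M) := N.map (QuotientGroup.mk' M) with hNb
  have hNbn : Nb.Normal := Subgroup.Normal.map hN _ (QuotientGroup.mk'_surjective M)
  have hfin : Finite S := by
    have : Finite (Fin k → S) := Finite.of_equiv _ e.toEquiv
    have h0 : Fin k := ⟨0, hk⟩
    exact Finite.of_surjective (fun f : Fin k → S => f h0) fun s => ⟨fun _ => s, rfl⟩
  have hk0 : k ≠ 0 := by omega
  rcases hF S hna with ⟨α, β, hα, hβ, hcop, hαe, hβe⟩ | ⟨α, hα, hαe⟩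
  · obtain ⟨χ, hχ, -⟩ := exists_power M Nb hna e hαe
    obtain ⟨ψ, hψ, -⟩ := exists_power M Nb hna e hβe
    refine ⟨χ, ψ, ?_, ?_, ?_⟩
    · rw [hχ]
      exact fun h => hα ((pow_eq_one_iff.1 h).resolve_right hk0)
    · rw [hψ]
      exact fun h => hβ ((pow_eq_one_iff.1 h).resolve_right hk0)
    · rw [hχ, hψ]
      exact Nat.Coprime.pow _ _ hcop
  · obtain ⟨χ, hχ, -⟩ := exists_power M Nb hna e hαe
    rw [isPrimePow_nat_iff] at hα
    obtain ⟨r, a, hr, ha, hra⟩ := hα
    by_contra hcon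
    push Not at hcon
    have hχ1 : charDegree (χ : G → ℂ) ≠ 1 := by
      rw [hχ, ← hra]
      intro h
      have h1 := (pow_eq_one_iff.1 h).resolve_right hk0
      have h2 := (pow_eq_one_iff.1 h1).resolve_right ha.ne'
      exact hr.one_lt.ne' h2
    have hdvd : ∀ ψ : IrrCharacter G, charDegree (ψ : G → ℂ) ≠ 1 → r ∣ charDegree (ψ : G → ℂ) := by
      intro ψ hψ
      by_contra h
      apply hcon χ ψ hχ1 hψ
      rw [hχ, ← hra]
      exact Nat.Coprime.pow_left _ (Nat.Coprime.pow_left _ ((Nat.Prime.coprime_iff_not_dvd hr).2 h))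
    obtain ⟨K, hK, hKr, m, hm⟩ := S4456.result r hr hdvd
    -- `N ≤ K`
    have hrN : IsPGroup r (N.map (QuotientGroup.mk' K)) := by
      have h1 : IsPGroup r (G ⧸ K) := IsPGroup.of_card (n := m) (by rw [← hm]; rfl)
      exact h1.to_subgroup _
    have hNK : N ≤ K := by
      have h1 : Group.IsSolvable (G ⧸ K) := by
        have : Fact r.Prime := ⟨hr⟩
        have h2 : IsPGroup r (G ⧸ K) := IsPGroup.of_card (n := m) (by rw [← hm]; rfl)
        have := h2.isNilpotent
        infer_instance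
      have h2 : ⁅N.map (QuotientGroup.mk' K), N.map (QuotientGroup.mk' K)⁆ = N.map (QuotientGroup.mk' K) := by
        rw [← Subgroup.map_commutator, hperf]
      by_contra hnot
      have h3 : N.map (QuotientGroup.mk' K) ≠ ⊥ := by
        intro h
        rw [Subgroup.map_eq_bot_iff, QuotientGroup.ker_mk'] at h
        exact hnot h
      exact (Group.IsSolvable.commutator_lt_of_ne_bot h3).ne h2
    have h1 : r ∣ Nat.card S := (dvd_pow_self r ha.ne').trans (hra ▸ charDegree_dvd α.2)
    have h2 : Nat.card S ∣ Nat.card Nb := by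
      rw [Nat.card_congr e.toEquiv, Nat.card_fun]
      exact dvd_pow_self _ (by simpa using hk0)
    have h3 : Nat.card Nb ∣ Nat.card N := by
      rw [hNb]
      exact Subgroup.card_map_dvd N (QuotientGroup.mk' M)
    have h4 : Nat.card N ∣ Nat.card K := Subgroup.card_dvd_of_le hNK
    have h5 : r ∣ Nat.card K := h1.trans (h2.trans (h3.trans h4))
    exact (Nat.Prime.coprime_iff_not_dvd hr).1 hKr.symm h5

end Cfsg.Agent.H671.CopRed
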