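import Cfsg.Agent.S4811
import Cfsg.Agent.H671.Frame
import Cfsg.Agent.H671.Tensor
import Cfsg.Agent.H671.CopRed
import Cfsg.Agent.H670.PSolv

/-!
# Character degrees of non-solvable groups: linking the primes (hub H5, helper671)

* `overN`, `quot` : degrees of normal subgroups divide degrees; degrees of quotients are degrees;
* `isIrr_pi`, `pi_mul` : products of degrees are degrees of powers;
* `linkN` : `K` normal in `X`, `X / K` has a non-linear character: for every degree `d` of `X` and every prime `p ∣ d` there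
  is a degree divisible by `p` and by a prime divisor of `|X : K|`;
* `Top` : the data of `Frame.exists_top`, packed;
* `Top.link` : every prime dividing a degree of `G` is reachable from a prime divisor of `|S|`.
-/

set_option autoImplicit false

namespace Cfsg.Agent.H671.Link

open Cfsg Cfsg.Agent.Characters.Core Cfsg.Agent.H681.DegBasic Cfsg.Agent.H671.H5
open scoped ComplexConjugate commutatorElement

universe u v

/-- the degree graph on its vertices -/
abbrev Gam (G : Type u) [Group G] : SimpleGraph ↥(degreePrimes G) := (degreeGraph G).induce (degreePrimes G)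

theorem mem_dp {G : Type u} [Group G] {p n : ℕ} (hp : p.Prime) (hn : n ∈ charDegrees G) (h : p ∣ n) :
    p ∈ degreePrimes G := ⟨hp, n, hn, h⟩

theorem reach {G : Type u} [Group G] {p q n : ℕ} (hp : p.Prime) (hq : q.Prime) (hn : n ∈ charDegrees G) (h : p ∣ n)
    (h' : q ∣ n) : (Gam G).Reachable ⟨p, mem_dp hp hn h⟩ ⟨q, mem_dp hq hn h'⟩ :=
  S4811.reachable_of_dvd _ _ hn h h'

/-- Degrees of normal subgroups divide degrees. -/
theorem overN {G : Type u} [Group G] [Finite G] (N : Subgroup G) [N.Normal] {d : ℕ} (hd : d ∈ charDegrees N) :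
    ∃ n ∈ charDegrees G, d ∣ n := by
  classical
  have : Fintype N := Fintype.ofFinite _
  obtain ⟨β, rfl⟩ := hd
  obtain ⟨χ, hχ⟩ := Blocks.Over.exists_over N β
  exact ⟨_, ⟨χ, rfl⟩, H670.PSing.degree_dvd_of_over N β.2 χ.2 hχ⟩

theorem quot {G : Type u} [Group G] (M : Subgroup G) [M.Normal] {d : ℕ} (hd : d ∈ charDegrees (G ⧸ M)) :
    d ∈ charDegrees G :=
  charDegrees_comp (QuotientGroup.mk' M) (QuotientGroup.mk'_surjective M) hd

theorem equiv {G : Type u} {H : Type v} [Group G] [Group H] (e : G ≃* H) {d : ℕ} (hd : d ∈ charDegrees H) :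
    d ∈ charDegrees G :=
  charDegrees_comp (e : G →* H) e.surjective hd

/-- Products of irreducible characters. -/
theorem isIrr_pi {S ι : Type*} [Group S] [Finite S] [Fintype ι] {θ : ι → S → ℂ}
    (hθ : ∀ i, IsIrrCharacter S (θ i)) : IsIrrCharacter (ι → S) (fun n => ∏ i, θ i (n i)) := by
  classical
  have := Fintype.ofFinite S
  have h1 : IsCharacter (ι → S) (fun n => ∏ i, θ i (n i)) := by
    have : ∀ s : Finset ι, IsCharacter (ι → S) (fun n => ∏ i ∈ s, θ i (n i)) := by
      intro s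
      induction s using Finset.induction_on with
      | empty => simpa using! isCharacter_one (G := ι → S)
      | insert a s ha ih =>
        have h2 := isCharacter_mul (isCharacter_comp (Pi.evalMonoidHom (fun _ : ι => S) a)
          (isIrr_isCharacter (hθ a))) ih
        have h3 : (fun n : ι → S => ∏ i ∈ insert a s, θ i (n i)) =
          ((θ a) ∘ (Pi.evalMonoidHom (fun _ : ι => S) a)) * fun n => ∏ i ∈ s, θ i (n i) := by
          funext n
          simp [Finset.prod_insert ha]
        rw [h3]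
        exact h2
    exact this Finset.univ
  refine isIrr_of_classInner_self h1 ?_
  have h4 : ∀ i, ∑ s : S, θ i s * conj (θ i s) = Nat.card S := by
    intro i
    have h5 := classInner_irr_self (hθ i)
    rw [classInner_def] at h5
    have h6 : (Nat.card S : ℂ) ≠ 0 := card_ne_zero_complex
    field_simp at h5
    exact h5
  rw [classInner_def]
  have h7 : ∑ n : ι → S, (∏ i, θ i (n i)) * conj (∏ i, θ i (n i)) = ∏ i : ι, ∑ s : S, θ i s * conj (θ i s) := by
    rw [Finset.prod_univ_sum, Fintype.piFinset_univ]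
    refine Finset.sum_congr rfl fun n _ => ?_
    rw [map_prod, ← Finset.prod_mul_distrib]
  rw [h7, Finset.prod_congr rfl fun i _ => h4 i]
  simp only [Finset.prod_const, Finset.card_univ, Nat.card_eq_fintype_card, Fintype.card_fun]
  push_cast
  rw [inv_mul_cancel₀]
  have : (Fintype.card S : ℂ) ≠ 0 := by
    have := Fintype.card_ne_zero (α := S)
    exact_mod_cast this
  exact pow_ne_zero _ this

/-- The product of two degrees of `S` is a degree of `S ^ ι` if `ι` has two elements. -/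
theorem pi_mul {S ι : Type*} [Group S] [Finite S] [Fintype ι] {i j : ι} (hij : i ≠ j) {a b : ℕ} (ha : a ∈ charDegrees S)
    (hb : b ∈ charDegrees S) : a * b ∈ charDegrees (ι → S) := by
  classical
  obtain ⟨α, hα, ha⟩ := mem_charDegrees.1 ha
  obtain ⟨β, hβ, hb⟩ := mem_charDegrees.1 hb
  let θ : ι → S → ℂ := fun l => if l = i then α else if l = j then β else 1
  have hθ : ∀ l, IsIrrCharacter S (θ l) := by
    intro l
    show IsIrrCharacter S (if l = i then α else if l = j then β else 1)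
    split_ifs
    · exact hα
    · exact hβ
    · exact isIrr_one
  refine mem_charDegrees.2 ⟨_, isIrr_pi hθ, ?_⟩
  show ∏ l, θ l 1 = _
  rw [← Finset.mul_prod_erase _ _ (Finset.mem_univ i),
    ← Finset.mul_prod_erase _ _ (Finset.mem_erase.2 ⟨hij.symm, Finset.mem_univ j⟩), Finset.prod_eq_one]
  · have h1 : θ i 1 = a := by show (if i = i then α else _) 1 = _; rw [if_pos rfl]; exact ha
    have h2 : θ j 1 = b := by
      show (if j = i then α else if j = j then β else 1) 1 = _
      rw [if_neg hij.symm, if_pos rfl]; exact hb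
    rw [h1, h2]; push_cast; ring
  · intro l hl
    rw [Finset.mem_erase, Finset.mem_erase] at hl
    show (if l = i then α else if l = j then β else 1) 1 = _
    rw [if_neg hl.2.1, if_neg hl.1]; rfl

/-- Degrees of `S` are degrees of `S ^ ι`. -/
theorem pi_one {S ι : Type*} [Group S] (i : ι) {a : ℕ} (ha : a ∈ charDegrees S) : a ∈ charDegrees (ι → S) :=
  charDegrees_comp (Pi.evalMonoidHom (fun _ : ι => S) i) (fun s => ⟨fun _ => s, rfl⟩) ha

/-- `K` normal in `X`, `X / K` has a non-linear character. -/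
theorem linkN {X : Type u} [Group X] [Finite X] (K : Subgroup X) [K.Normal] {b : ℕ} (hb : b ∈ charDegrees (X ⧸ K))
    (hb1 : b ≠ 1) {d p : ℕ} (hd : d ∈ charDegrees X) (hpd : p ∣ d) :
    ∃ q n : ℕ, q.Prime ∧ q ∣ K.index ∧ n ∈ charDegrees X ∧ p ∣ n ∧ q ∣ n := by
  classical
  have : Fintype X := Fintype.ofFinite _
  have : Fintype K := Fintype.ofFinite _
  obtain ⟨θ, hθ, hθ1⟩ := mem_charDegrees.1 hd
  obtain ⟨ψ, e, hψ, hψ1, hne, hed, hidx⟩ := exists_constituent K hθ hθ1
  have hd0 : 0 < d := pos_of_mem hd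
  by_cases h1 : d / e = 1
  · have h2 : d = e := by
      have := Nat.div_mul_cancel hed
      rw [h1, one_mul] at this
      exact this.symm
    have h3 := restrict_eq_of_degree K (isIrr_isCharacter hθ) hψ hne (by rw [hθ1, hψ1, h2])
    have h4 : IsIrrCharacter K (fun k : K => θ k) := by rw [h3]; exact hψ
    have h5 := gallagher (QuotientGroup.mk' K) (QuotientGroup.mk'_surjective K) K
      (fun k hk => (QuotientGroup.eq_one_iff k).2 hk) hθ h4 hθ1 hb
    obtain ⟨q, hq, hqb⟩ := Nat.exists_prime_and_dvd hb1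
    refine ⟨q, _, hq, ?_, h5, Dvd.dvd.mul_left hpd _, Dvd.dvd.mul_right hqb _⟩
    have h6 := dvd_card hb
    rw [← Subgroup.index_eq_card] at h6
    exact hqb.trans h6
  · obtain ⟨q, hq, hqd⟩ := Nat.exists_prime_and_dvd h1
    exact ⟨q, d, hq, hqd.trans hidx, hd, hpd, hqd.trans (Nat.div_dvd_of_dvd hed)⟩

/-- The data of `Frame.exists_top`. -/
structure Top (G : Type u) [Group G] where
  N : Subgroup G
  M : Subgroup G
  hN : N.Normal
  hM : M.Normal
  lt : M < N
  perf : ⁅N, N⁆ = N
  sol : Group.IsSolvable (G ⧸ N)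
  chief : ∀ K : Subgroup G, K.Normal → M ≤ K → K ≤ N → K = M ∨ K = N
  S : Type
  grp : Group S
  simple : IsSimpleGroup S
  fin : Finite S
  k : ℕ
  kpos : 1 ≤ k
  na : ¬ IsMulCommutative S
  e : N.map (QuotientGroup.mk' M) ≃* (Fin k → S)

theorem Top.exists {G : Type u} [Group G] [Finite G] (hG : ¬ Group.IsSolvable G) : Nonempty (Top G) := by
  obtain ⟨N, M, hN, hM, hMN, hperf, hsol, hchief, S, iS, iS', k, hk, hna, ⟨e⟩⟩ := Frame.exists_top hG
  have hfin : Finite S := by
    have : Finite (Fin k → S) := Finite.of_equiv _ e.toEquiv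
    have h0 : Fin k := ⟨0, hk⟩
    exact Finite.of_surjective (fun f : Fin k → S => f h0) fun s => ⟨fun _ => s, rfl⟩
  exact ⟨⟨N, M, hN, hM, hMN, hperf, hsol, hchief, S, iS, iS', hfin, k, hk, hna, e⟩⟩

namespace Top

variable {G : Type u} [Group G] [Finite G] (T : Top G)

instance nNormal : T.N.Normal := T.hN
instance mNormal : T.M.Normal := T.hM
instance sGroup : Group T.S := T.grp
instance sSimple : IsSimpleGroup T.S := T.simple
instance sFinite : Finite T.S := T.fin

/-- the chief factor -/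
abbrev Nb : Subgroup (G ⧸ T.M) := T.N.map (QuotientGroup.mk' T.M)

instance nbNormal : T.Nb.Normal := Subgroup.Normal.map T.hN _ (QuotientGroup.mk'_surjective T.M)

/-- Degrees of `S` divide degrees of `G`. -/
theorem ofS {n : ℕ} (hn : n ∈ charDegrees T.S) : ∃ m ∈ charDegrees G, n ∣ m := by
  have h1 : n ∈ charDegrees T.Nb := equiv T.e (pi_one (⟨0, T.kpos⟩ : Fin T.k) hn)
  obtain ⟨m, hm, hnm⟩ := overN T.Nb h1
  exact ⟨m, quot T.M hm, hnm⟩

/-- Products of two degrees of `S` divide degrees of `G` if there are two factors. -/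
theorem ofS_mul (hk : 2 ≤ T.k) {a b : ℕ} (ha : a ∈ charDegrees T.S) (hb : b ∈ charDegrees T.S) :
    ∃ m ∈ charDegrees G, a * b ∣ m := by
  have h0 : (⟨0, by omega⟩ : Fin T.k) ≠ ⟨1, by omega⟩ := by
    intro h; exact absurd (congrArg Fin.val h) (by simp)
  have h1 : a * b ∈ charDegrees T.Nb := equiv T.e (pi_mul h0 ha hb)
  obtain ⟨m, hm, hnm⟩ := overN T.Nb h1
  exact ⟨m, quot T.M hm, hnm⟩

omit [Finite G] in
theorem card_Nb : Nat.card T.Nb = Nat.card T.S ^ T.k := by
  rw [Nat.card_congr T.e.toEquiv, Nat.card_fun]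
  simp

omit [Finite G] in
/-- `|N : M| = |S| ^ k` -/
theorem index_eq : (T.M.subgroupOf T.N).index = Nat.card T.S ^ T.k := by
  rw [← card_Nb, Nb, ← Subgroup.relIndex_ker, QuotientGroup.ker_mk']
  rfl

omit [Finite G] in
theorem not_le : ¬ T.N ≤ T.M := not_le_of_gt T.lt

/-- `N / M` has a degree `≠ 1` -/
theorem exists_degree_ne_one : ∃ b ∈ charDegrees (T.N ⧸ T.M.subgroupOf T.N), b ≠ 1 := by
  by_contra hcon
  push Not at hcon
  apply T.not_le
  have hcomm : ∀ a b : T.N ⧸ T.M.subgroupOf T.N, a * b = b * a := by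
    rw [S0187.result]
    intro χ
    obtain ⟨n, hn⟩ := isCharacter_apply_one (isIrr_isCharacter χ.2)
    rw [hn, hcon n (mem_charDegrees.2 ⟨χ, χ.2, hn⟩), Nat.cast_one]
  rw [← T.perf, Subgroup.commutator_le]
  intro a ha b hb
  have h1 := hcomm (QuotientGroup.mk ⟨a, ha⟩) (QuotientGroup.mk ⟨b, hb⟩)
  rw [← QuotientGroup.mk_mul, ← QuotientGroup.mk_mul, eq_comm, QuotientGroup.eq] at h1
  have h2 : (⟨b, hb⟩ * ⟨a, ha⟩ : T.N)⁻¹ * (⟨a, ha⟩ * ⟨b, hb⟩) ∈ T.M.subgroupOf T.N := h1
  rw [Subgroup.mem_subgroupOf] at h2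
  have h3 : (b * a)⁻¹ * (a * b) ∈ T.M := h2
  have h4 := T.hM.conj_mem _ h3 (b * a)
  have h5 : b * a * ((b * a)⁻¹ * (a * b)) * (b * a)⁻¹ = ⁅a, b⁆ := by
    rw [commutatorElement_def]; group
  rwa [h5] at h4

/-- Every prime dividing a degree of `N` is linked in `G` to a prime dividing `|S|`. -/
theorem linkNG {d p : ℕ} (hd : d ∈ charDegrees T.N) (hpd : p ∣ d) :
    ∃ q n : ℕ, q.Prime ∧ q ∣ Nat.card T.S ∧ n ∈ charDegrees G ∧ p ∣ n ∧ q ∣ n := by
  obtain ⟨b, hb, hb1⟩ := T.exists_degree_ne_one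
  obtain ⟨q, n, hq, hqi, hn, hpn, hqn⟩ := linkN (T.M.subgroupOf T.N) hb hb1 hd hpd
  rw [index_eq] at hqi
  obtain ⟨m, hm, hnm⟩ := overN T.N hn
  exact ⟨q, m, hq, hq.dvd_of_dvd_pow hqi, hm, hpn.trans hnm, hqn.trans hnm⟩

/-- **Linking**: for every degree `n` of `G` and every prime `p ∣ n` some prime divisor of `|S|` is reachable from `p`. -/
theorem link (hE : FactExt.{0}) {n p : ℕ} (hp : p.Prime) (hn : n ∈ charDegrees G) (hpn : p ∣ n) :
    ∃ (q : ℕ) (_ : q.Prime) (_ : q ∣ Nat.card T.S) (hq : q ∈ degreePrimes G),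
      (Gam G).Reachable ⟨p, mem_dp hp hn hpn⟩ ⟨q, hq⟩ := by
  classical
  have : Fintype G := Fintype.ofFinite _
  have : Fintype T.N := Fintype.ofFinite _
  obtain ⟨χ, hχ, hχ1⟩ := mem_charDegrees.1 hn
  obtain ⟨θ, d, hθ, hθ1, hne, hdn, -⟩ := exists_constituent T.N hχ hχ1
  by_cases h1 : d = 1
  · -- `N` is in the kernel
    subst h1
    obtain ⟨f, rfl⟩ := Characters.Linear.exists_hom_of_isIrrCharacter hθ (by rw [hθ1, Nat.cast_one])
    have hf : ∀ x : T.N, f x = 1 := by
      have h1 : commutator T.N = ⊤ := by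
        rw [eq_top_iff, ← Subgroup.map_subtype_le_map_subtype, Subgroup.map_subtype_commutator, T.perf]
        exact Subgroup.map_subtype_le _
      intro x
      have h2 : x ∈ commutator T.N := h1 ▸ Subgroup.mem_top x
      exact Abelianization.commutator_subset_ker f h2
    have hsum : ∑ x : T.N, χ x ≠ 0 := by
      intro h0
      apply hne
      rw [classInner_def]
      simp only [hf, Units.val_one, map_one, mul_one]
      rw [h0, mul_zero]
    obtain ⟨χ', hχ'⟩ := Blocks.Deflate.exists_deflation T.N χ hχ hsum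
    have hn' : n ∈ charDegrees (G ⧸ T.N) := by
      refine mem_charDegrees.2 ⟨χ', χ'.2, ?_⟩
      rw [← hχ1, hχ']
      rfl
    obtain ⟨α, hα1, hα⟩ := hE T.S T.na
    obtain ⟨ψ, hψ1, hψ⟩ := CopRed.exists_power T.M T.Nb T.na T.e hα
    -- `ψ` restricted to `N` is irreducible
    let π : T.N →* T.Nb := (QuotientGroup.mk' T.M).subgroupMap T.N
    have hπ : Function.Surjective π := MonoidHom.subgroupMap_surjective _ _
    have hres : IsIrrCharacter T.N (fun x : T.N => (ψ : G → ℂ) x) := by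
      have h1 : (fun x : T.N => (ψ : G → ℂ) x) =
          (fun s : Fin T.k → T.S => ∏ i, (α : T.S → ℂ) (s i)) ∘ ((T.e : T.Nb →* (Fin T.k → T.S)).comp π) := by
        funext x
        exact hψ x (Subgroup.mem_map_of_mem _ x.2)
      rw [h1]
      exact isIrr_comp _ (T.e.surjective.comp hπ) (isIrr_pi fun _ => α.2)
    have h2 : (ψ : G → ℂ) 1 = (charDegree (ψ : G → ℂ) : ℂ) := Blocks.Basic.irr_one_eq_charDegree ψ.2
    have h3 := gallagher (QuotientGroup.mk' T.N) (QuotientGroup.mk'_surjective T.N) T.N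
      (fun k hk => (QuotientGroup.eq_one_iff k).2 hk) ψ.2 hres h2 hn'
    obtain ⟨q, hq, hqα⟩ := Nat.exists_prime_and_dvd hα1
    have hqS : q ∣ Nat.card T.S := hqα.trans (dvd_card ⟨α, rfl⟩)
    have hqn : q ∣ n * charDegree (ψ : G → ℂ) := by
      rw [hψ1]
      exact Dvd.dvd.mul_left (hqα.trans (dvd_pow_self _ (by have := T.kpos; omega))) _
    refine ⟨q, hq, hqS, mem_dp hq h3 hqn, ?_⟩
    exact reach hp hq h3 (Dvd.dvd.mul_right hpn _) hqn
  · obtain ⟨s, hs, hsd⟩ := Nat.exists_prime_and_dvd h1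
    obtain ⟨q, m, hq, hqS, hm, hsm, hqm⟩ := T.linkNG (mem_charDegrees.2 ⟨θ, hθ, hθ1⟩) hsd
    refine ⟨q, hq, hqS, mem_dp hq hm hqm, ?_⟩
    exact (reach hp hs hn hpn (hsd.trans hdn)).trans (reach hs hq hm hsm hqm)

end Top

end Cfsg.Agent.H671.Link
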