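import Cfsg.Agent.H671.GraphRest
import Cfsg.Agent.H678.DG.Mathieu
import Cfsg.Agent.H678.DG.Rows
import Cfsg.Agent.H678.DG.He
import Cfsg.Agent.H678.DG.HS
import Cfsg.Agent.H678.DG.McL
import Cfsg.Agent.H678.DG.Tits
import Cfsg.Agent.H678.DG.FiDeg
import Cfsg.Agent.H653.Spor.Mathieu
import Cfsg.Agent.H653.Spor.J1
import Cfsg.Agent.H653.Spor.J3
import Cfsg.Agent.H653.Spor.Fi22
import Cfsg.Agent.H653.Spor.Ru
import Cfsg.Agent.H492.FactsHN
import Cfsg.Agent.H492.FactsON
import Cfsg.Agent.H492.FactsTh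
import Cfsg.Agent.H492.IMJ4
import Cfsg.Agent.H843.IMC.GraphCo
import Cfsg.Agent.H843.IMC.RowsB
import Cfsg.Agent.H653.Spor.Fi24
import Cfsg.Agent.H843.IMC.RowsC
import Cfsg.Agent.H653.Spor.Ly
import Cfsg.Agent.H995.IMBRow
import Cfsg.Agent.H816.IMM
import Cfsg.Agent.H477.HC.SpSix

/-!
# The graph facts of the sporadic groups (hub H5, helper671)

* `spor_split` : a sporadic group satisfies `GFacts`, or is one of the groups whose row is incomplete;
* `factConn'`, `factInd'`, `factTri'`, `factDia'` : the four facts for all simple groups, from the missing rows.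
-/

set_option autoImplicit false

namespace Cfsg.Agent.H671.GraphAsm

open Cfsg Cfsg.Agent.H671.H5

universe u

theorem GFacts.of678 {S : Type u} [Group S] (h : H678.DG.Facts S) : GFacts S := ⟨h.conn, h.ind, h.tri⟩

theorem GFacts.of653 {S : Type u} [Group S] (h : H653.Graph.GraphFacts S) : GFacts S := ⟨h.conn, h.ind, h.tri⟩

theorem tits (S : Type u) [Group S] [Finite S] [IsSimpleGroup S] (h : Lie.IsoTits S) : GFacts S :=
  GFacts.of678 (H678.DG.Tits.facts_tits h)

/-- all the nonsporadic rows -/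
theorem restAll : Rest.{u} := rest H477.HC.tsp62 tits

/-- The sporadic groups: those whose graph facts are proved, and the others. -/
theorem spor_split (hK0 : KnownAll.{0}) {S : Type u} [Group S] [Finite S] (h : IsSporadicGroup S) :
    GFacts S ∨ (Spor.IsoRu S ∨ Spor.IsoFi24' S) := by
  rcases h with h | h | h | h | h | h | h | h | h | h | h | h | h | h | h | h | h | h | h | h | h | h | h | h | h | h
  · exact Or.inl (.of678 (H678.DG.Mathieu.facts_m11 h))
  · exact Or.inl (.of678 (H678.DG.Mathieu.facts_m12 h))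
  · exact Or.inl (.of678 (H653.Spor.Mathieu.facts_m22 h))
  · exact Or.inl (.of678 (H653.Spor.Mathieu.facts_m23 h))
  · exact Or.inl (.of678 (H653.Spor.Mathieu.facts_m24 h))
  · exact Or.inl (.of653 (H653.Spor.J1.facts S h))
  · exact Or.inl (.of678 (H678.DG.Rows.facts_j2 h))
  · exact Or.inl (.of653 (H653.Spor.J3.facts S h))
  · exact Or.inl (.of678 (H492.IMJ4.facts_j4 h))
  · exact Or.inl (.of678 (H843.IMC.Rows.facts_co1 h))
  · exact Or.inl (.of678 (H843.IMC.Rows.facts_co2 h))
  · exact Or.inl (.of678 (H843.IMC.Rows.facts_co3 h))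
  · exact Or.inl (.of678 (H678.DG.McL.facts_mcl h))
  · exact Or.inl (.of678 (H678.DG.HS.facts_hs h))
  · exact Or.inl (.of678 (H678.DG.Rows.facts_suz h))
  · exact Or.inl (.of678 (H678.DG.He.facts_he h))
  · exact Or.inr (Or.inl h)
  · exact Or.inl (.of678 (H492.FactsON.facts_on h))
  · exact Or.inl (.of678 (H653.Spor.Ly.facts_ly (fun X _ _ _ => hK0 X) h))
  · exact Or.inl (.of678 (H653.Spor.Fi22.facts_fi22 h))
  · exact Or.inl (.of678 (H678.DG.FiBlk.facts_fi23 h))
  · exact Or.inr (Or.inr (h))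
  · exact Or.inl (.of678 (H492.FactsHN.facts_hn h))
  · exact Or.inl (.of678 (H492.FactsTh.facts_th h))
  · exact Or.inl (.of678 (H995.IMB.facts_b h))
  · exact Or.inl (.of678 (H816.IMM.facts_m h))

/-- **`FactConn`**. -/
theorem factConn' (hK : KnownAll.{u}) (hK0 : KnownAll.{0}) (hH : Herzog.{u}) : FactConn.{u} :=
  factConn hK hH restAll fun S _ _ _ h => by
    rcases spor_split hK0 h with h | h | h
    · exact h.conn
    · exact (H653.Spor.Ru.facts h).conn
    · exact (H653.Spor.Fi24.facts h).conn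

/-- **`FactTri`**. -/
theorem factTri' (hK : KnownAll.{u}) (hK0 : KnownAll.{0}) (hH : Herzog.{u}) : FactTri.{u} :=
  factTri hK hH restAll fun S _ _ _ h => by
    rcases spor_split hK0 h with h | h | h
    · exact h.tri
    · exact (H653.Spor.Ru.facts h).tri
    · exact (H653.Spor.Fi24.facts h).tri

/-- **`FactInd`** from the missing rows. -/
theorem factInd' (hK : KnownAll.{u}) (hK0 : KnownAll.{0}) (hH : Herzog.{u})
    (hs : ∀ (S : Type u) [Group S] [Finite S], (Spor.IsoRu S ∨ Spor.IsoFi24' S) →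
      ∀ p ∈ degreePrimes S, ∀ q ∈ degreePrimes S, ∀ r ∈ degreePrimes S,
        p ≠ q → q ≠ r → p ≠ r → Adj p q S ∨ Adj q r S ∨ Adj p r S) : FactInd.{u} :=
  factInd hK hH restAll fun S _ _ _ h => by
    rcases spor_split hK0 h with h | h
    · exact h.ind
    · exact hs S h

/-- **`FactDia`**. -/
theorem factDia' (hK : KnownAll.{u}) (hK0 : KnownAll.{0}) (hH : Herzog.{u}) : FactDia.{u} :=
  factDia hK hH restAll fun S _ _ _ h hc => by
    rcases spor_split hK0 h with h | h | h
    · exact h.dia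
    · exact (H653.Spor.Ru.facts h).dia
    · exact (H653.Spor.Fi24.facts h).dia

end Cfsg.Agent.H671.GraphAsm
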