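import Cfsg.Agent.H671.GraphFin
import Cfsg.Agent.H671.GraphSpor
import Cfsg.Agent.H671.FactRows
import Cfsg.Agent.H33.IMRest

/-!
# The facts of hub H5 for all finite simple groups, unconditionally (helper671)

This module imports the classification `S0000`.
-/

set_option autoImplicit false

namespace Cfsg.Agent.H671.GraphAsm

open Cfsg Cfsg.Agent.H671.H5

universe u

/-- **Itô-Michler for all simple groups.** -/
theorem factIM_all : FactIM.{u} := H33.imFact.{u} fun _ _ _ _ => S0000.result

/-- **The degree graph of a simple group other than `PSL(2,F)` is connected.** -/
theorem factConn_all : FactConn.{u} := factConn' knownAll knownAll herzog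

/-- **The degree graph of a simple group other than `PSL(2,F)` contains a triangle.** -/
theorem factTri_all : FactTri.{u} := factTri' knownAll knownAll herzog

/-- **The degree graph of a simple group has diameter at most three if it is connected.** -/
theorem factDia_all : FactDia.{u} := factDia' knownAll knownAll herzog

/-- **Some irreducible character of degree greater than one extends to the automorphism group.** -/
theorem factExt_all : FactExt.{u} := FactRows.factExt fun _ _ _ _ => S0000.result

end Cfsg.Agent.H671.GraphAsm
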