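import Cfsg.Agent.H525.L2.Main

/-!
# Three coprime classes of primes (hub H5, helper671)

For `q` even the numbers `q`, `q - 1`, `q + 1` are pairwise coprime. `Mixed q d`: the number `d` is divisible by primes of two of
these classes.

* `exists_lin_sep`, `sep_over` : `X / M ≅ PSL(2, q)`, `q ≥ 4` even, `θ ∈ Irr(M)` such that no ratio `χ(1) / θ(1)`,
  `χ ∈ Irr(X | θ)`, is mixed: then `θ` extends to `X`.
-/

set_option autoImplicit false

namespace Cfsg.Agent.H671.Sep

open Cfsg Cfsg.Agent.Characters.Core Cfsg.Agent.H681.DegBasic Cfsg.Agent.H525.L2 Cfsg.Agent.H595.Count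
  Cfsg.Agent.H595.Central Cfsg.Agent.H595.Triple

universe u v

/-- the three classes -/
def A (q : ℕ) : Fin 3 → ℕ := ![q, q - 1, q + 1]

theorem A0 (q : ℕ) : A q 0 = q := rfl
theorem A1 (q : ℕ) : A q 1 = q - 1 := rfl
theorem A2 (q : ℕ) : A q 2 = q + 1 := rfl

/-- `d` is divisible by primes of two classes. -/
def Mixed (q d : ℕ) : Prop :=
  ∃ p r : ℕ, p.Prime ∧ r.Prime ∧ p ∣ d ∧ r ∣ d ∧ ∃ i j : Fin 3, i ≠ j ∧ p ∣ A q i ∧ r ∣ A q j

theorem Mixed.mono {q d e : ℕ} (h : Mixed q d) (hde : d ∣ e) : Mixed q e := by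
  obtain ⟨p, r, hp, hr, h1, h2, h3⟩ := h
  exact ⟨p, r, hp, hr, h1.trans hde, h2.trans hde, h3⟩

theorem cop01 {q : ℕ} (h4 : 4 ≤ q) : Nat.Coprime q (q - 1) := by
  have h : q = (q - 1) + 1 := by omega
  rw [Nat.coprime_comm]
  conv_rhs => rw [h]
  exact (Nat.coprime_self_add_right).2 (Nat.coprime_one_right _)

theorem cop02 {q : ℕ} : Nat.Coprime q (q + 1) :=
  (Nat.coprime_self_add_right).2 (Nat.coprime_one_right _)

theorem cop12 {q : ℕ} (h4 : 4 ≤ q) (he : Even q) : Nat.Coprime (q - 1) (q + 1) := by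
  have h : q + 1 = (q - 1) + 2 := by omega
  rw [h]
  refine (Nat.coprime_self_add_right).2 ?_
  rw [Nat.coprime_two_right, Nat.odd_iff]
  rw [Nat.even_iff] at he
  omega

theorem cop {q : ℕ} (h4 : 4 ≤ q) (he : Even q) {i j : Fin 3} (hij : i ≠ j) : Nat.Coprime (A q i) (A q j) := by
  fin_cases i <;> fin_cases j
  · exact absurd rfl hij
  · exact cop01 h4
  · exact cop02
  · exact (cop01 h4).symm
  · exact absurd rfl hij
  · exact cop12 h4 he
  · exact cop02.symm
  · exact (cop12 h4 he).symm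
  · exact absurd rfl hij

/-- A divisor of the order which is not mixed divides one of the three numbers. -/
theorem exists_class {q d : ℕ} (hd : d ∣ A q 0 * (A q 1 * A q 2)) (hno : ¬ Mixed q d) :
    ∃ i, d ∣ A q i := by
  by_cases h1 : d = 1
  · exact ⟨0, h1 ▸ one_dvd _⟩
  set p := d.minFac with hp
  have hpp : p.Prime := Nat.minFac_prime h1
  have hpd : p ∣ d := Nat.minFac_dvd _
  have key : ∀ i j k : Fin 3, j ≠ i → k ≠ i → p ∣ A q i → d ∣ A q i * (A q j * A q k) → d ∣ A q i := by
    intro i j k hj hk hpi h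
    have hc : ∀ l : Fin 3, l ≠ i → Nat.Coprime d (A q l) := by
      intro l hl
      refine Nat.Coprime.symm (Nat.coprime_of_dvd fun r hr h2 h3 => ?_)
      exact hno ⟨p, r, hpp, hr, hpd, h3, i, l, hl.symm, hpi, h2⟩
    exact (Nat.Coprime.mul_right (hc j hj) (hc k hk)).dvd_of_dvd_mul_right h
  rcases (Nat.Prime.dvd_mul hpp).1 (hpd.trans hd) with h | h
  · exact ⟨0, key 0 1 2 (by decide) (by decide) h hd⟩
  · rcases (Nat.Prime.dvd_mul hpp).1 h with h | h
    · exact ⟨1, key 1 0 2 (by decide) (by decide) h (hd.trans (by rw [mul_left_comm]))⟩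
    · refine ⟨2, key 2 0 1 (by decide) (by decide) h (hd.trans ?_)⟩
      rw [← mul_assoc, mul_comm]

theorem class_unique {q d e : ℕ} (h4 : 4 ≤ q) (he : Even q) {i j : Fin 3} (hd : d ∣ A q i) (hej : e ∣ A q j)
    (h : ¬ d.Coprime e) : j = i := by
  by_contra hij
  exact h ((cop h4 he (Ne.symm hij)).of_dvd hd hej)

section

variable {Q S : Type u} [Group Q] [Finite Q] [Group S] [Finite S] [IsSimpleGroup S]
  {F : Type} [Field F] [Fintype F] (D : Fr S F) {π : Q →* S}

/-- Degrees over a central linear character divide the order of the quotient. -/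
theorem deg_dvd_card {Q S : Type u} [Group Q] [Finite Q] [Group S] {π : Q →* S} (hs : Function.Surjective π)
    (hc : π.ker ≤ Subgroup.center Q) (β : IrrCharacter Q) : charDegree (β : Q → ℂ) ∣ Nat.card S := by
  classical
  have : Fintype Q := Fintype.ofFinite _
  have : Fintype π.ker := Fintype.ofFinite _
  obtain ⟨ψ, d, hψ, hψ1, -, hd, hi⟩ := exists_constituent π.ker β.2 (deg_spec β.2).1
  have hcomm : ∀ a b : π.ker, a * b = b * a := by
    intro a b
    apply Subtype.ext
    exact Subgroup.mem_center_iff.1 (hc b.2) a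
  have h1 := S0187.result.1 hcomm ⟨ψ, hψ⟩
  have h2 : (ψ 1 : ℂ) = 1 := h1
  rw [hψ1] at h2
  have h3 : d = 1 := by exact_mod_cast h2
  rw [h3, Nat.div_one, Subgroup.index_ker, π.range_eq_top.2 hs] at hi
  rwa [Nat.card_congr (Subgroup.topEquiv (G := S)).toEquiv] at hi

omit [IsSimpleGroup S] in
theorem card_A (heven : Even (Fintype.card F)) (D : Fr S F) :
    Nat.card S = A (Fintype.card F) 0 * (A (Fintype.card F) 1 * A (Fintype.card F) 2) := by
  rw [D.card_even heven, A0, A1, A2]
  ring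

include D in
theorem exists_lin_sep (h4 : 4 ≤ Fintype.card F) (heven : Even (Fintype.card F)) (hs : Function.Surjective π)
    (hc : π.ker ≤ Subgroup.center Q) (l : π.ker →* ℂˣ) (hl : Function.Injective l)
    (hno : ∀ β : IrrCharacter Q, Over π l (β : Q → ℂ) → ¬ Mixed (Fintype.card F) (charDegree (β : Q → ℂ))) :
    ∃ lam : Q →* ℂˣ, ∀ z : π.ker, lam z = l z := by
  classical
  by_contra hnl
  set q := Fintype.card F with hq
  have hcls : ∀ β : IrrCharacter Q, Over π l (β : Q → ℂ) → ∃ i, charDegree (β : Q → ℂ) ∣ A q i := fun β hβ =>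
    exists_class ((deg_dvd_card hs hc β).trans (by rw [card_A heven D])) (hno β hβ)
  obtain ⟨β0, h0⟩ := exists_over l hs hc
  have hcop : ∀ β γ : IrrCharacter Q, Over π l (β : Q → ℂ) → Over π l (γ : Q → ℂ) →
      ¬ (charDegree (β : Q → ℂ)).Coprime (charDegree (γ : Q → ℂ)) := by
    intro β γ hβ hγ hcop
    exact hnl (exists_linear hc β.2 hβ (deg_spec β.2).1 γ.2 hγ (deg_spec γ.2).1 hcop)
  have hne1 : ∀ β : IrrCharacter Q, Over π l (β : Q → ℂ) → charDegree (β : Q → ℂ) ≠ 1 := by
    intro β hβ h1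
    apply hcop β β hβ hβ
    rw [h1]
    exact Nat.coprime_one_left 1
  obtain ⟨i, hi⟩ := hcls β0 h0
  have hall : ∀ β : IrrCharacter Q, Over π l (β : Q → ℂ) → charDegree (β : Q → ℂ) ∣ A q i := by
    intro β hβ
    obtain ⟨j, hj⟩ := hcls β hβ
    rwa [class_unique h4 heven hi hj (hcop β0 β h0 hβ)] at hj
  obtain ⟨p, hchar⟩ := CharP.exists F
  obtain ⟨n, hp, hqn⟩ := FiniteField.card F p
  have hp2 : p = 2 := by
    have h1 : 2 ∣ p ^ (n : ℕ) := by rw [← hqn, ← even_iff_two_dvd]; exact heven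
    exact ((Nat.prime_dvd_prime_iff_eq Nat.prime_two hp).1 (Nat.prime_two.dvd_of_dvd_pow h1)).symm
  subst hp2
  by_cases hi0 : i = 0
  · -- all degrees are powers of two
    subst hi0
    refine hnl (exists_lin D h4 hs hc l hl fun β hβ => ?_)
    rintro ⟨r, s, hr, hs', hrs, hd⟩
    have h1 := hd.trans (hall β hβ)
    rw [A0, hq, hqn] at h1
    have h2 := (Nat.prime_dvd_prime_iff_eq hr Nat.prime_two).1 (hr.dvd_of_dvd_pow ((Dvd.intro _ rfl).trans h1))
    have h3 := (Nat.prime_dvd_prime_iff_eq hs' Nat.prime_two).1 (hs'.dvd_of_dvd_pow ((Dvd.intro_left _ rfl).trans h1))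
    exact hrs (h2.trans h3.symm)
  · -- all degrees are odd
    have hodd : ¬ 2 ∣ charDegree (β0 : Q → ℂ) := by
      intro h
      have h1 : 2 ∣ A q 0 := by rw [A0, ← even_iff_two_dvd]; exact heven
      have h2 := Nat.eq_one_of_dvd_coprimes (cop h4 heven hi0) (h.trans hi) h1
      omega
    have hV := comm_of_coprime (D := D) hs hc hl hp (CharP.cast_eq_zero F 2) β0.2 h0 (deg_spec β0.2).1 hodd
    obtain ⟨g, hg⟩ := IsCyclic.exists_generator (α := Fˣ)
    have hord : orderOf g = q - 1 := by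
      rw [orderOf_eq_card_of_forall_mem_zpowers hg, Nat.card_eq_fintype_card, Fintype.card_units]
    have hge : ∀ β : IrrCharacter Q, Over π l (β : Q → ℂ) → q - 1 ≤ charDegree (β : Q → ℂ) := by
      intro β hβ
      refine deg_ge hs hc hV g (by omega) ?_ β.2 hβ (deg_spec β.2).1 (hne1 β hβ)
      intro k hk0 hkn hk
      have h1 : q - 1 ∣ 2 * k := by
        rw [← hord]
        apply orderOf_dvd_of_pow_eq_one
        apply Units.ext
        rw [mul_comm, pow_mul, Units.val_pow_eq_pow_val, hk, Units.val_one]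
      have h2 : Nat.Coprime (q - 1) 2 := by
        rw [Nat.coprime_two_right, Nat.odd_iff]
        rw [Nat.even_iff] at heven
        omega
      exact absurd (Nat.le_of_dvd hk0 (h2.dvd_of_dvd_mul_left h1)) (by omega)
    have hdeg : ∀ β : IrrCharacter Q, Over π l (β : Q → ℂ) → charDegree (β : Q → ℂ) = A q i := by
      intro β hβ
      obtain ⟨c, hc'⟩ := hall β hβ
      have h1 := hge β hβ
      have hApos : 0 < A q i := by
        fin_cases i
        · exact absurd rfl hi0
        · show 0 < q - 1; omega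
        · show 0 < q + 1; omega
      have hA : A q i ≤ q + 1 := by
        fin_cases i
        · exact absurd rfl hi0
        · show q - 1 ≤ q + 1; omega
        · exact le_refl _
      have hc0 : c ≠ 0 := by
        rintro rfl
        omega
      have hc1 : c < 2 := by
        by_contra h2
        push Not at h2
        have : (q - 1) * 2 ≤ q + 1 := by
          calc (q - 1) * 2 ≤ charDegree (β : Q → ℂ) * c := Nat.mul_le_mul h1 h2
            _ = A q i := hc'.symm
            _ ≤ q + 1 := hA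
        omega
      have : c = 1 := by omega
      rw [this, mul_one] at hc'
      exact hc'.symm
    have hsq : A q i ^ 2 ∣ Nat.card S := pow_dvd_card l hs hc fun β hβ => by rw [hdeg β hβ]
    rw [card_A heven D, ← hq] at hsq
    have hcase : i = 1 ∨ i = 2 := by
      fin_cases i
      · exact absurd rfl hi0
      · exact Or.inl rfl
      · exact Or.inr rfl
    rcases hcase with rfl | rfl
    · have h1 : A q 1 * A q 1 ∣ A q 1 * (A q 0 * A q 2) := by
        rw [← pow_two]
        refine hsq.trans ?_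
        rw [mul_left_comm]
      have h2 := Nat.dvd_of_mul_dvd_mul_left (by rw [A1]; omega) h1
      have h3 := (Nat.Coprime.mul_right (cop h4 heven (by decide : (1 : Fin 3) ≠ 0))
        (cop h4 heven (by decide : (1 : Fin 3) ≠ 2)))
      have h4' := Nat.Coprime.eq_one_of_dvd h3 h2
      rw [A1] at h4'
      omega
    · have h1 : A q 2 * A q 2 ∣ A q 2 * (A q 0 * A q 1) := by
        rw [← pow_two]
        refine hsq.trans ?_
        rw [← mul_assoc, mul_comm]
      have h2 := Nat.dvd_of_mul_dvd_mul_left (by rw [A2]; omega) h1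
      have h3 := (Nat.Coprime.mul_right (cop h4 heven (by decide : (2 : Fin 3) ≠ 0))
        (cop h4 heven (by decide : (2 : Fin 3) ≠ 1)))
      have h4' := Nat.Coprime.eq_one_of_dvd h3 h2
      rw [A2] at h4'
      omega

end

section Index

open Matrix Cfsg.Agent.H670.RankOne Cfsg.Agent.H670.SL2

variable {F : Type v} [Field F] [Fintype F]

/-- Subgroups of odd index of `SL(2, F)`, `q` even, contain conjugates of the unipotent group: they have index divisible by `q + 1`;
if the index is `q + 1` they are not commutative. -/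
theorem odd_index (H : Subgroup (SpecialLinearGroup (Fin 2) F)) (h4 : 4 ≤ Fintype.card F)
    (heven : Even (Fintype.card F)) (hodd : ¬ 2 ∣ H.index) (hne : H ≠ ⊤) :
    Fintype.card F + 1 ∣ H.index ∧ (H.index = Fintype.card F + 1 → ¬ ∀ a ∈ H, ∀ b ∈ H, a * b = b * a) := by
  classical
  obtain ⟨p, hchar⟩ := CharP.exists F
  obtain ⟨n, hp, hqn⟩ := FiniteField.card F p
  have hp2 : p = 2 := by
    have h1 : 2 ∣ p ^ (n : ℕ) := by rw [← hqn, ← even_iff_two_dvd]; exact heven
    exact ((Nat.prime_dvd_prime_iff_eq Nat.prime_two hp).1 (Nat.prime_two.dvd_of_dvd_pow h1)).symm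
  subst hp2
  have : Fact (Nat.Prime 2) := ⟨hp⟩
  let _ : MulAction (Multiplicative F) (SpecialLinearGroup (Fin 2) F ⧸ H) :=
    MulAction.compHom _ ((data F).xh)
  obtain ⟨gH, hg⟩ := (xh_pgroup hqn).nonempty_fixed_point_of_prime_not_dvd_card
    (SpecialLinearGroup (Fin 2) F ⧸ H) hodd
  obtain ⟨g, rfl⟩ := QuotientGroup.mk_surjective gH
  let H' : Subgroup (SpecialLinearGroup (Fin 2) F) := H.comap (MulAut.conj g⁻¹).toMonoidHom
  have hmem : ∀ z, z ∈ H' ↔ g⁻¹ * z * g ∈ H := by
    intro z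
    show g⁻¹ * z * g⁻¹⁻¹ ∈ H ↔ _
    rw [inv_inv]
  have hx : ∀ s, x s ∈ H' := by
    intro s
    rw [hmem]
    have h1 := hg (Multiplicative.ofAdd s)
    have h2 : ((x s * g : SpecialLinearGroup (Fin 2) F) : SpecialLinearGroup (Fin 2) F ⧸ H) = g := h1
    have h3 := QuotientGroup.eq.1 h2.symm
    rwa [← mul_assoc] at h3
  have hidx : H'.index = H.index := Subgroup.index_comap_of_surjective H (MulAut.conj g⁻¹).surjective
  have hne' : H' ≠ ⊤ := by
    intro h
    rw [h, Subgroup.index_top, eq_comm, Subgroup.index_eq_one] at hidx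
    exact hne hidx
  have hle := le_B_of_x H' hx hne'
  have hBi : (data F).B.index = Fintype.card F + 1 := (data F).index_B
  refine ⟨?_, ?_⟩
  · have h1 := Subgroup.index_dvd_of_le hle
    rwa [hBi, hidx] at h1
  · intro heq hcomm
    have hHB : H' = (data F).B := by
      refine Subgroup.eq_of_le_of_card_ge hle ?_
      have h1 := H'.card_mul_index
      have h2 := (data F).B.card_mul_index
      rw [hidx, heq] at h1
      rw [hBi, ← h1] at h2
      exact (Nat.eq_of_mul_eq_mul_right (Nat.succ_pos _) h2).le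
    -- a unit `u` with `u ^ 2 ≠ 1`
    have hexu : ∃ u : Fˣ, (u : F) ^ 2 ≠ 1 := by
      by_contra hcon
      push Not at hcon
      obtain ⟨g, hg⟩ := IsCyclic.exists_generator (α := Fˣ)
      have hord : orderOf g = Fintype.card F - 1 := by
        rw [orderOf_eq_card_of_forall_mem_zpowers hg, Nat.card_eq_fintype_card, Fintype.card_units]
      have h1 : g ^ 2 = 1 := Units.ext (by rw [Units.val_pow_eq_pow_val, hcon g, Units.val_one])
      have h2 := orderOf_dvd_of_pow_eq_one h1
      rw [hord] at h2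
      have := Nat.le_of_dvd (by norm_num) h2
      omega
    obtain ⟨u, hu⟩ := hexu
    have ht : tor u ∈ H' := by
      rw [hHB]
      exact (data F).T_le ⟨u, rfl⟩
    have h1 := hcomm _ ((hmem _).1 ht) _ ((hmem _).1 (hx 1))
    have h2 : tor u * x 1 = x 1 * tor u := by
      have e1 : g⁻¹ * tor u * g * (g⁻¹ * x 1 * g) = g⁻¹ * (tor u * x 1) * g := by group
      have e2 : g⁻¹ * x 1 * g * (g⁻¹ * tor u * g) = g⁻¹ * (x 1 * tor u) * g := by group
      rw [e1, e2] at h1
      exact mul_left_cancel (mul_right_cancel h1)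
    rw [tor_mul_x] at h2
    have h3 := mul_right_cancel h2
    have h4 := congrArg e01 h3
    rw [x01, x01, mul_one] at h4
    exact hu h4

/-- The same for a group isomorphic to `PSL(2, F)`. -/
theorem odd_index' {F : Type} [Field F] [Fintype F] {S : Type u} [Group S] [Finite S] (D : Fr S F) (H : Subgroup S)
    (h4 : 4 ≤ Fintype.card F) (heven : Even (Fintype.card F)) (hodd : ¬ 2 ∣ H.index) (hne : H ≠ ⊤) :
    Fintype.card F + 1 ∣ H.index ∧ (H.index = Fintype.card F + 1 → ¬ ∀ a ∈ H, ∀ b ∈ H, a * b = b * a) := by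
  have hi : (H.comap D.f).index = H.index := Subgroup.index_comap_of_surjective H D.surj
  have hne' : H.comap D.f ≠ ⊤ := by
    intro h
    apply hne
    rw [h, Subgroup.index_top, eq_comm, Subgroup.index_eq_one] at hi
    exact hi
  obtain ⟨h1, h2⟩ := odd_index (H.comap D.f) h4 heven (by rwa [hi]) hne'
  rw [hi] at h1 h2
  refine ⟨h1, fun h3 h5 => h2 h3 ?_⟩
  intro a ha b hb
  apply D.f_inj heven
  rw [map_mul, map_mul]
  exact h5 _ ha _ hb

end Index

section Over

variable {X : Type u} [Group X] [Finite X] (M : Subgroup X) [hM : M.Normal] {F : Type} [Field F]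
  [Fintype F] (hF : 4 ≤ Fintype.card F) (heven : Even (Fintype.card F))
  (e : X ⧸ M ≃* Matrix.ProjectiveSpecialLinearGroup (Fin 2) F) [Fintype M] (θ : IrrCharacter M)

include hF heven e in
theorem inv_sep (hinv : CInv M (θ : M → ℂ))
    (hno : ∀ χ : IrrCharacter X, classInner (fun m : M => (χ : X → ℂ) m) (θ : M → ℂ) ≠ 0 →
      ∀ d : ℕ, charDegree (χ : X → ℂ) = d * charDegree (θ : M → ℂ) → ¬ Mixed (Fintype.card F) d) :
    ∃ χ : IrrCharacter X, ∀ m : M, (χ : X → ℂ) m = (θ : M → ℂ) m := by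
  classical
  have hsimp : IsSimpleGroup (Matrix.ProjectiveSpecialLinearGroup (Fin 2) F) :=
    Matrix.ProjectiveSpecialLinearGroup.rank_two_simple
      (by rw [Nat.card_eq_fintype_card]; omega)
  have hsimp' : IsSimpleGroup (X ⧸ M) := e.isSimpleGroup
  obtain ⟨Q, hg, hfin, π, l, hs, hc, hl, H⟩ := exists_red M θ hinv
  have hover : ∀ (χ : IrrCharacter X) (b : ℕ), b ≠ 0 →
      (∀ n : M, (χ : X → ℂ) n = b * (θ : M → ℂ) n) → ¬ Mixed (Fintype.card F) b := by
    intro χ b hb h
    refine hno χ ?_ b ?_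
    · have h1 : (fun m : M => (χ : X → ℂ) m) = (b : ℂ) • (θ : M → ℂ) := by
        funext m
        rw [h m, Pi.smul_apply, smul_eq_mul]
      rw [h1, classInner_smul_left, classInner_irr_self θ.2, mul_one]
      exact Nat.cast_ne_zero.2 hb
    · have h1 := h 1
      rw [Subgroup.coe_one, (deg_spec χ.2).1, (deg_spec θ.2).1] at h1
      exact_mod_cast h1
  have hno' : ∀ β : IrrCharacter Q, Over π l (β : Q → ℂ) → ¬ Mixed (Fintype.card F) (charDegree (β : Q → ℂ)) := by
    intro β hβ
    obtain ⟨χ, hχ⟩ := H β hβ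
    refine hover χ _ (deg_spec β.2).2.ne' fun n => ?_
    rw [hχ n, (deg_spec β.2).1]
  obtain ⟨lam, hlam⟩ := exists_lin_sep (frame e) hF heven hs hc l hl hno'
  obtain ⟨χ0, hχ0⟩ := H (homIrr lam) (over_of_linear hlam)
  refine ⟨χ0, fun n => ?_⟩
  rw [hχ0 n, homIrr_apply, map_one, Units.val_one, one_mul]

include hF heven e in
theorem proper_sep (hT1 : Cfsg.Agent.H672.inertia M (θ : M → ℂ) ≠ ⊤)
    (hno : ∀ χ : IrrCharacter X, classInner (fun m : M => (χ : X → ℂ) m) (θ : M → ℂ) ≠ 0 →
      ∀ d : ℕ, charDegree (χ : X → ℂ) = d * charDegree (θ : M → ℂ) → ¬ Mixed (Fintype.card F) d) : False := by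
  classical
  have hsimp : IsSimpleGroup (Matrix.ProjectiveSpecialLinearGroup (Fin 2) F) :=
    Matrix.ProjectiveSpecialLinearGroup.rank_two_simple
      (by rw [Nat.card_eq_fintype_card]; omega)
  have hsimp' : IsSimpleGroup (X ⧸ M) := e.isSimpleGroup
  have := Fintype.ofFinite X
  set q := Fintype.card F with hq
  set T := Cfsg.Agent.H672.inertia M (θ : M → ℂ) with hTdef
  have := Fintype.ofFinite T
  have hT : ∀ g : X, g ∈ T ↔ ∀ n : M, (θ : M → ℂ) ⟨g * n * g⁻¹, hM.conj_mem (n : X) n.2 g⟩ =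
      (θ : M → ℂ) n := fun g => Cfsg.Agent.H672.mem_inertia_iff
  have hMT : M ≤ T := Cfsg.Agent.H672.le_inertia (isIrr_isClassFunction θ.2)
  let N : Subgroup T := M.subgroupOf T
  let eN : N ≃* M := Subgroup.subgroupOfEquivOfLe hMT
  let θ' : IrrCharacter N := ⟨(θ : M → ℂ) ∘ eN, isIrr_comp eN.toMonoidHom eN.surjective θ.2⟩
  have hinv : CInv N (θ' : N → ℂ) := by
    intro x n
    exact (hT x).1 x.2 (eN n)
  obtain ⟨Q, hg, hfin, π, l, hs, hc, hl, H⟩ := exists_red N θ' hinv
  -- the degrees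
  have hno' : ∀ β : IrrCharacter Q, Over π l (β : Q → ℂ) →
      ¬ Mixed q (T.index * charDegree (β : Q → ℂ)) := by
    intro β hβ
    obtain ⟨ψ, hψ⟩ := H β hβ
    have hψ' : ∀ m : M, (ψ : T → ℂ) ⟨m, hMT m.2⟩ =
        (charDegree (β : Q → ℂ) : ℂ) * (θ : M → ℂ) m := by
      intro m
      have := hψ ⟨⟨m, hMT m.2⟩, m.2⟩
      rw [(deg_spec β.2).1] at this
      exact this
    obtain ⟨h1, h2, h3⟩ := over_ind M θ.2 T hT hMT ψ.2 (deg_spec β.2).2.ne' hψ'
    refine hno ⟨_, h1⟩ h3 _ ?_
    have h4 := hψ' 1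
    have h5 : (⟨((1 : M) : X), hMT (1 : M).2⟩ : T) = 1 := rfl
    rw [h5, (deg_spec θ.2).1] at h4
    rw [h4, (deg_spec h1).1] at h2
    have h6 : charDegree (indFun T (ψ : T → ℂ)) =
        T.index * (charDegree (β : Q → ℂ) * charDegree (θ : M → ℂ)) := by exact_mod_cast h2
    rw [mul_assoc]
    exact h6
  have hTi : T.index ≠ 1 := fun h => hT1 (Subgroup.index_eq_one.1 h)
  have hTi0 : T.index ≠ 0 := Subgroup.index_ne_zero_of_finite
  -- the image in the quotient
  let ι : T ⧸ N →* X ⧸ M := QuotientGroup.map N M T.subtype (fun x hx => hx)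
  have hι : Function.Injective ι := by
    rw [injective_iff_map_eq_one]
    intro y hy
    obtain ⟨t, rfl⟩ := QuotientGroup.mk_surjective y
    have h1 : ((t : X) : X ⧸ M) = 1 := hy
    have h2 : (t : X) ∈ M := (QuotientGroup.eq_one_iff (t : X)).1 h1
    exact (QuotientGroup.eq_one_iff t).2 h2
  have hHi : ι.range.index = T.index := by
    have h1 : ι.range.comap (QuotientGroup.mk' M) = T := by
      ext x
      constructor
      · rintro ⟨y, hy⟩
        obtain ⟨t, rfl⟩ := QuotientGroup.mk_surjective y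
        have h2 : ((t : X) : X ⧸ M) = (x : X ⧸ M) := hy
        have h3 := QuotientGroup.eq.1 h2
        have h4 := T.mul_mem t.2 (hMT h3)
        rwa [mul_inv_cancel_left] at h4
      · intro hx
        exact ⟨((⟨x, hx⟩ : T) : T ⧸ N), rfl⟩
    rw [← Subgroup.index_comap_of_surjective ι.range (QuotientGroup.mk'_surjective M), h1]
  have hHc : Nat.card ι.range = Nat.card (T ⧸ N) :=
    (Nat.card_congr (MonoidHom.ofInjective hι).toEquiv).symm
  have hHne : ι.range ≠ ⊤ := by
    intro h
    rw [h, Subgroup.index_top] at hHi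
    exact hTi hHi.symm
  have hcard := card_A (S := X ⧸ M) heven (frame e)
  rw [← hq] at hcard
  have hmul := ι.range.card_mul_index
  rw [hHi, hHc] at hmul
  obtain ⟨β1, hβ1⟩ := exists_over l hs hc
  obtain ⟨i, hi⟩ : ∃ i, T.index ∣ A q i := by
    refine exists_class ?_ fun h => hno' β1 hβ1 (h.mono (Dvd.intro _ rfl))
    rw [← hcard, ← hmul]
    exact Dvd.intro_left _ rfl
  -- the degrees of `Q` over `l` divide `A q i` and are coprime to `|T / N|` : all are 1
  have hfin2 : Finite (T ⧸ N) := inferInstance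
  have hcop : Nat.Coprime (Nat.card (T ⧸ N)) (A q i) → ∀ a b : T ⧸ N, a * b = b * a := by
    intro hcop
    have hdeg1 : ∀ β : IrrCharacter Q, Over π l (β : Q → ℂ) → charDegree (β : Q → ℂ) = 1 := by
      intro β hβ
      obtain ⟨j, hj⟩ : ∃ j, T.index * charDegree (β : Q → ℂ) ∣ A q j := by
        refine exists_class ?_ (hno' β hβ)
        rw [← hcard, ← hmul, mul_comm]
        exact Nat.mul_dvd_mul (deg_dvd_card hs hc β) dvd_rfl
      have hji : j = i := by
        refine class_unique hF heven hi ((Dvd.intro _ rfl).trans hj : T.index ∣ A q j) ?_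
        rw [Nat.coprime_self]
        exact hTi
      rw [hji] at hj
      exact Nat.eq_one_of_dvd_coprimes hcop (deg_dvd_card hs hc β) ((Dvd.intro_left _ rfl).trans hj)
    obtain ⟨lam, hlam⟩ := exists_linear hc β1.2 hβ1 (deg_spec β1.2).1 β1.2 hβ1 (deg_spec β1.2).1
      (by rw [hdeg1 β1 hβ1]; exact Nat.coprime_one_left 1)
    have hlin : ∀ η : IrrCharacter (T ⧸ N), (η : T ⧸ N → ℂ) 1 = 1 := by
      intro η
      have hirr := Cfsg.Agent.CharactersDeep.ExtUnique.isIrr_mul_hom (isIrr_comp π hs η.2) lam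
      have ho : Over π l (fun g => ((η : T ⧸ N → ℂ) ∘ π) g * lam g) := by
        intro g z
        have h1 : π (g * z) = π g := by rw [map_mul, (MonoidHom.mem_ker.1 z.2), mul_one]
        show (η : T ⧸ N → ℂ) (π (g * z)) * lam (g * z) = (η : T ⧸ N → ℂ) (π g) * lam g * l z
        rw [h1, map_mul, hlam, Units.val_mul, mul_assoc]
      have hb := hdeg1 ⟨_, hirr⟩ ho
      have hdeg : charDegree (fun g => ((η : T ⧸ N → ℂ) ∘ π) g * lam g) =
          charDegree (η : T ⧸ N → ℂ) := by
        have h1 : (fun g => ((η : T ⧸ N → ℂ) ∘ π) g * (lam g : ℂ)) 1 = (η : T ⧸ N → ℂ) 1 := by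
          show (η : T ⧸ N → ℂ) (π 1) * (lam 1 : ℂ) = _
          rw [map_one, map_one, Units.val_one, mul_one]
        unfold charDegree
        rw [h1]
      have hb' : charDegree (η : T ⧸ N → ℂ) = 1 := by rw [← hdeg]; exact hb
      rw [(deg_spec η.2).1, hb', Nat.cast_one]
    exact Cfsg.Agent.S0187.result.2 hlin
  have hcomm' : (∀ a b : T ⧸ N, a * b = b * a) → ∀ a ∈ ι.range, ∀ b ∈ ι.range, a * b = b * a := by
    rintro h _ ⟨y, rfl⟩ _ ⟨z, rfl⟩
    rw [← map_mul, ← map_mul, h]
  by_cases hi0 : i = 0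
  · subst hi0
    obtain ⟨p, hchar⟩ := CharP.exists F
    obtain ⟨n, hp, hqn⟩ := FiniteField.card F p
    have hp2 : p = 2 := by
      have h1 : 2 ∣ p ^ (n : ℕ) := by rw [← hqn, ← even_iff_two_dvd]; exact heven
      exact ((Nat.prime_dvd_prime_iff_eq Nat.prime_two hp).1 (Nat.prime_two.dvd_of_dvd_pow h1)).symm
    subst hp2
    rw [A0, hq, hqn] at hi
    obtain ⟨a, -, ha⟩ := (Nat.dvd_prime_pow hp).1 hi
    have ha0 : a ≠ 0 := by
      rintro rfl
      exact hTi ha
    have hnd := (frame e).not_dvd hF ι.range hp ha0 (by rw [hHi, ha])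
    rw [hHc] at hnd
    have hc2 : Nat.Coprime (Nat.card (T ⧸ N)) (A q 0) := by
      rw [A0, hq, hqn]
      exact Nat.Coprime.pow_right _ ((Nat.Prime.coprime_iff_not_dvd hp).2 hnd).symm
    refine not_comm_of_index ?_ ι.range hp (by rw [hHi, ha]) (hcomm' (hcop hc2))
    intro hP
    rw [hcard, A0, A1, A2] at hP
    exact Nat.not_prime_mul (by omega) (by
      have : 1 < (q - 1) * (q + 1) := by
        have : 3 * 5 ≤ (q - 1) * (q + 1) := Nat.mul_le_mul (by omega) (by omega)
        omega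
      omega) hP
  · have hoddi : ¬ 2 ∣ T.index := by
      intro h
      have h1 : 2 ∣ A q 0 := by rw [A0, ← even_iff_two_dvd]; exact heven
      have h2 := Nat.eq_one_of_dvd_coprimes (cop hF heven hi0) (h.trans hi) h1
      omega
    obtain ⟨h1, h2⟩ := odd_index' (frame e) ι.range hF heven (by rw [hHi]; exact hoddi) hHne
    rw [hHi, ← hq] at h1 h2
    have hi2 : i = 2 := by
      refine class_unique hF heven (i := 2) (j := i) (dvd_refl _) (h1.trans hi) ?_
      rw [A2, Nat.coprime_self]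
      omega
    subst hi2
    have heq : T.index = q + 1 := Nat.dvd_antisymm hi h1
    refine h2 heq (hcomm' (hcop ?_))
    have hc3 : Nat.card (T ⧸ N) = A q 0 * A q 1 := by
      rw [heq, hcard, A2, ← mul_assoc] at hmul
      exact Nat.eq_of_mul_eq_mul_right (Nat.succ_pos q) hmul
    rw [hc3]
    exact Nat.Coprime.mul_left (cop hF heven (by decide)) (cop hF heven (by decide))

end Over

/-- **Characters over `θ`, quotient `PSL(2, q)`, `q ≥ 4` even**: if no ratio of degrees is mixed, `θ` extends. -/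
theorem sep_over {X : Type u} [Group X] [Finite X] (M : Subgroup X) [M.Normal] {F : Type} [Field F]
    [Fintype F] (hF : 4 ≤ Fintype.card F) (heven : Even (Fintype.card F))
    (e : X ⧸ M ≃* Matrix.ProjectiveSpecialLinearGroup (Fin 2) F) [Fintype M] (θ : IrrCharacter M)
    (hno : ∀ χ : IrrCharacter X, classInner (fun m : M => (χ : X → ℂ) m) (θ : M → ℂ) ≠ 0 →
      ∀ d : ℕ, charDegree (χ : X → ℂ) = d * charDegree (θ : M → ℂ) → ¬ Mixed (Fintype.card F) d) :
    ∃ χ : IrrCharacter X, ∀ m : M, (χ : X → ℂ) m = (θ : M → ℂ) m := by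
  by_cases hT : Cfsg.Agent.H672.inertia M (θ : M → ℂ) = ⊤
  · refine inv_sep M hF heven e θ ?_ hno
    intro x n
    have : x ∈ Cfsg.Agent.H672.inertia M (θ : M → ℂ) := by rw [hT]; trivial
    exact Cfsg.Agent.H672.mem_inertia_iff.1 this n
  · exact absurd hno (fun hno => proper_sep M hF heven e θ hT hno)

end Cfsg.Agent.H671.Sep
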