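import Cfsg.Agent.H671.L2Inv
import Cfsg.Agent.H671.Sep
import Cfsg.Agent.H671.Link

/-!
# Field automorphisms link the classes of primes (hub H5, helper671)

* `exists_subnormal` : above a normal subgroup with solvable quotient there is a subnormal subgroup of prime relative index;
* `field_link` : `H` with a normal subgroup `N ≅ SL(2, F)`, `q ≥ 4` even, trivial centralizer, `H / N` solvable `≠ 1`: two degrees
  of `H` sharing a prime link two different classes.
-/

set_option autoImplicit false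

namespace Cfsg.Agent.H671.FieldLink

open Cfsg Cfsg.Agent.Characters.Core Cfsg.Agent.H681.DegBasic Cfsg.Agent.H671.Link Cfsg.Agent.H671.Sep
  Cfsg.Agent.H671.L2Inv
open scoped commutatorElement

universe u

theorem exists_subnormal {H : Type u} [Group H] [Finite H] (N : Subgroup H) [hN : N.Normal]
    (hs : Group.IsSolvable (H ⧸ N)) (hne : N ≠ ⊤) :
    ∃ (D K : Subgroup H), D.Normal ∧ (K.subgroupOf D).Normal ∧ K ≤ D ∧ N ≤ K ∧ (N.relIndex K).Prime := by
  classical
  have hnt : Nontrivial (H ⧸ N) := by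
    rw [← not_subsingleton_iff_nontrivial]
    intro h
    exact hne (QuotientGroup.subgroup_eq_top_of_subsingleton N h)
  obtain ⟨n, hn⟩ := (Group.isSolvable_def (H ⧸ N)).1 hs
  have hex : ∃ n, derivedSeries (H ⧸ N) n = ⊥ := ⟨n, hn⟩
  set m := Nat.find hex with hm
  have hm0 : m ≠ 0 := by
    intro h0
    have h1 := Nat.find_spec hex
    rw [← hm, h0, derivedSeries_zero] at h1
    exact top_ne_bot h1
  obtain ⟨k, hk⟩ := Nat.exists_eq_succ_of_ne_zero hm0
  set D' := derivedSeries (H ⧸ N) k with hD'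
  have hD'n : D'.Normal := inferInstance
  have hD'ne : D' ≠ ⊥ := Nat.find_min hex (by rw [← hm, hk]; exact Nat.lt_succ_self k)
  have hD'c : ∀ a ∈ D', ∀ b ∈ D', a * b = b * a := by
    intro a ha b hb
    have h1 : ⁅a, b⁆ ∈ derivedSeries (H ⧸ N) (k + 1) := by
      rw [derivedSeries_succ]
      exact Subgroup.commutator_mem_commutator ha hb
    have h2 : derivedSeries (H ⧸ N) (k + 1) = ⊥ := by
      have := Nat.find_spec hex
      rwa [← hm, hk] at this
    rw [h2, Subgroup.mem_bot] at h1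
    exact commutatorElement_eq_one_iff_mul_comm.1 h1
  have hcard : Nat.card D' ≠ 1 := fun h => hD'ne (Subgroup.card_eq_one.1 h)
  obtain ⟨s, hs, hsd⟩ := Nat.exists_prime_and_dvd hcard
  have : Fact s.Prime := ⟨hs⟩
  obtain ⟨x, hx⟩ := exists_prime_orderOf_dvd_card' s hsd
  let K' : Subgroup (H ⧸ N) := Subgroup.zpowers (x : H ⧸ N)
  have hK'D' : K' ≤ D' := by
    rw [Subgroup.zpowers_le]
    exact x.2
  have hK'c : Nat.card K' = s := by
    rw [Nat.card_zpowers, Subgroup.orderOf_coe, hx]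
  let π := QuotientGroup.mk' N
  refine ⟨D'.comap π, K'.comap π, hD'n.comap π, ?_, Subgroup.comap_mono hK'D', ?_, ?_⟩
  · refine ⟨fun a ha g => ?_⟩
    rw [Subgroup.mem_subgroupOf] at ha ⊢
    have h1 : π (a : H) ∈ K' := ha
    have h2 : π (g : H) ∈ D' := g.2
    show π ((g * a * g⁻¹ : D'.comap π) : H) ∈ K'
    have h3 : π ((g * a * g⁻¹ : D'.comap π) : H) = π (a : H) := by
      rw [Subgroup.coe_mul, Subgroup.coe_mul, Subgroup.coe_inv, map_mul, map_mul, map_inv,
        hD'c _ h2 _ (hK'D' h1), mul_inv_cancel_right]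
    rw [h3]
    exact h1
  · intro a ha
    have h1 : π a = 1 := (QuotientGroup.eq_one_iff a).2 ha
    show π a ∈ K'
    rw [h1]
    exact K'.one_mem
  · have h1 : N.relIndex (K'.comap π) = s := by
      have h2 : π.ker = N := QuotientGroup.ker_mk' N
      have h3 : π.ker.relIndex (K'.comap π) = Nat.card ((K'.comap π).map π) := Subgroup.relIndex_ker _ _
      rw [h2, Subgroup.map_comap_eq_self_of_surjective (QuotientGroup.mk'_surjective N), hK'c] at h3
      exact h3
    rw [h1]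
    exact hs

section

variable {H : Type u} [Group H] [Finite H] {F : Type} [Field F] [Fintype F] [CharP F 2]

local notation "SL2" => Matrix.SpecialLinearGroup (Fin 2) F

/-- conjugation by `g` as an automorphism of `SL(2, F)` -/
noncomputable def cjA (N : Subgroup H) [N.Normal] (e : N ≃* SL2) (g : H) : MulAut SL2 :=
  (e.symm.trans (MulAut.conjNormal g : MulAut N)).trans e

omit [Finite H] [Fintype F] [CharP F 2] in
theorem cjA_apply (N : Subgroup H) [hN : N.Normal] (e : N ≃* SL2) (g : H) (n : N) :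
    cjA N e g (e n) = e ⟨g * n * g⁻¹, hN.conj_mem n n.2 g⟩ := by
  show e (MulAut.conjNormal g (e.symm (e n))) = _
  rw [e.symm_apply_apply]
  rfl

omit [Finite H] [Fintype F] [CharP F 2] in
theorem cjA_mul (N : Subgroup H) [hN : N.Normal] (e : N ≃* SL2) (g h : H) :
    cjA N e (g * h) = cjA N e g * cjA N e h := by
  apply MulEquiv.ext
  intro x
  obtain ⟨n, rfl⟩ := e.surjective x
  rw [MulAut.mul_apply, cjA_apply, cjA_apply, cjA_apply]
  congr 1
  apply Subtype.ext
  show g * h * n * (g * h)⁻¹ = g * (h * n * h⁻¹) * g⁻¹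
  group

omit [Finite H] [Fintype F] [CharP F 2] in
/-- Elements acting as inner automorphisms lie in `N`. -/
theorem mem_of_inner (N : Subgroup H) [hN : N.Normal] (e : N ≃* SL2)
    (hC : ∀ x : H, (∀ n ∈ N, x * n = n * x) → x = 1) {g : H} {x : SL2} (h : cjA N e g = MulAut.conj x) : g ∈ N := by
  obtain ⟨y, rfl⟩ := e.surjective x
  have h1 : (y : H)⁻¹ * g = 1 := by
    apply hC
    intro n hn
    have h2 := cjA_apply N e g ⟨n, hn⟩
    rw [h, MulAut.conj_apply, ← map_mul, ← map_inv, ← map_mul] at h2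
    have h3 := congrArg Subtype.val (e.injective h2)
    have h4 : (y : H) * n * (y : H)⁻¹ = g * n * g⁻¹ := h3
    have h5 : (y : H)⁻¹ * (g * n * g⁻¹) * g = n * (y : H)⁻¹ * g := by
      rw [← h4]; group
    calc (y : H)⁻¹ * g * n = (y : H)⁻¹ * (g * n * g⁻¹) * g := by group
      _ = n * (y : H)⁻¹ * g := h5
      _ = n * ((y : H)⁻¹ * g) := by group
  have h2 : g = y := by
    rw [inv_mul_eq_one] at h1
    exact h1.symm
  rw [h2]
  exact y.2

/-- A moved character gives a degree of `H`. -/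
theorem degree_of_moved (N : Subgroup H) [hN : N.Normal] (e : N ≃* SL2) {D K : Subgroup H} (hD : D.Normal)
    (hKD : (K.subgroupOf D).Normal) (hle : K ≤ D) (hNK : N ≤ K) (hp : (N.relIndex K).Prime) {g : H} (hg : g ∈ K)
    {χ : IrrCharacter SL2} (hχ : (χ : SL2 → ℂ) ∘ cjA N e g ≠ (χ : SL2 → ℂ)) :
    ∃ n ∈ charDegrees H, N.relIndex K * charDegree (χ : SL2 → ℂ) ∣ n := by
  classical
  have hN'n : (N.subgroupOf K).Normal := hN.subgroupOf K
  let eN : N.subgroupOf K ≃* N := Subgroup.subgroupOfEquivOfLe hNK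
  let f : N.subgroupOf K ≃* SL2 := eN.trans e
  have hf : ∀ n : N.subgroupOf K, f n = e ⟨((n : K) : H), Subgroup.mem_subgroupOf.1 n.2⟩ := fun n => rfl
  obtain ⟨θ, hθv⟩ : ∃ θ : N.subgroupOf K → ℂ, ∀ n : N.subgroupOf K,
      θ n = (χ : SL2 → ℂ) (e ⟨((n : K) : H), Subgroup.mem_subgroupOf.1 n.2⟩) := ⟨_, fun n => rfl⟩
  have hθf : θ = (χ : SL2 → ℂ) ∘ f.toMonoidHom := by
    funext n
    rw [hθv]
    exact congrArg _ (hf n).symm
  have hθ : IsIrrCharacter (N.subgroupOf K) θ := by
    rw [hθf]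
    exact isIrr_comp f.toMonoidHom f.surjective χ.2
  have hθ1 : θ 1 = (charDegree (χ : SL2 → ℂ) : ℂ) := by
    rw [hθf, Function.comp_apply, map_one]
    exact Blocks.Basic.irr_one_eq_charDegree χ.2
  have hmem : ∀ x : K, x ∈ H672.inertia (N.subgroupOf K) θ ↔ (χ : SL2 → ℂ) ∘ cjA N e (x : H) = (χ : SL2 → ℂ) := by
    intro x
    rw [H672.mem_inertia_iff]
    constructor
    · intro h
      funext y
      obtain ⟨n, rfl⟩ := e.surjective y
      have h1 := h ⟨⟨(n : H), hNK n.2⟩, Subgroup.mem_subgroupOf.2 n.2⟩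
      rw [hθv, hθv] at h1
      rw [Function.comp_apply, cjA_apply]
      exact h1
    · intro h n
      have h1 := congrFun h (e ⟨((n : K) : H), Subgroup.mem_subgroupOf.1 n.2⟩)
      rw [Function.comp_apply, cjA_apply] at h1
      rw [hθv, hθv]
      exact h1
  have hle' : N.subgroupOf K ≤ H672.inertia (N.subgroupOf K) θ :=
    H672.le_inertia (isIrr_isClassFunction hθ)
  have hidx : (N.subgroupOf K).index = N.relIndex K := rfl
  have hin : H672.inertia (N.subgroupOf K) θ = N.subgroupOf K := by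
    have h1 := Subgroup.relIndex_mul_index hle'
    rw [hidx] at h1
    rcases (Nat.dvd_prime hp).1 (Dvd.intro _ h1) with h2 | h2
    · exact le_antisymm (Subgroup.relIndex_eq_one.1 h2) hle'
    · exfalso
      rw [h2] at h1
      have h3 : (H672.inertia (N.subgroupOf K) θ).index = 1 :=
        Nat.eq_of_mul_eq_mul_left hp.pos (by rw [h1, mul_one])
      rw [Subgroup.index_eq_one] at h3
      have h4 : (⟨g, hg⟩ : K) ∈ H672.inertia (N.subgroupOf K) θ := by rw [h3]; exact Subgroup.mem_top _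
      exact hχ ((hmem ⟨g, hg⟩).1 h4)
  have hdeg : (N.subgroupOf K).index * charDegree (χ : SL2 → ℂ) ∈ charDegrees K := by
    refine induced_degree (N.subgroupOf K) hθ hθ1 fun x hx => ?_
    rw [← hin]
    exact H672.mem_inertia_iff.2 hx
  rw [hidx] at hdeg
  have hdeg' := equiv (Subgroup.subgroupOfEquivOfLe hle) hdeg
  obtain ⟨m, hm, hdm⟩ := overN (K.subgroupOf D) hdeg'
  obtain ⟨n, hn, hmn⟩ := overN D hm
  exact ⟨n, hn, hdm.trans hmn⟩

/-- **Field automorphisms link two classes of primes.** -/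
theorem field_link (h4 : 4 ≤ Fintype.card F) (N : Subgroup H) [hN : N.Normal] (e : N ≃* SL2)
    (hC : ∀ x : H, (∀ n ∈ N, x * n = n * x) → x = 1) (hs : Group.IsSolvable (H ⧸ N)) (hne : N ≠ ⊤) :
    ∃ (i j : Fin 3) (a b p r s : ℕ), i ≠ j ∧ a ∈ charDegrees H ∧ b ∈ charDegrees H ∧ p.Prime ∧ r.Prime ∧ s.Prime ∧
      p ∣ a ∧ s ∣ a ∧ s ∣ b ∧ r ∣ b ∧ p ∣ A (Fintype.card F) i ∧ r ∣ A (Fintype.card F) j := by
  classical
  obtain ⟨D, K, hD, hKD, hle, hNK, hp⟩ := exists_subnormal N hs hne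
  have hNK' : ¬ K ≤ N := by
    intro h
    have : N.relIndex K = 1 := Subgroup.relIndex_eq_one.2 h
    rw [this] at hp
    exact Nat.not_prime_one hp
  obtain ⟨g, hgK, hgN⟩ := Set.not_subset.1 hNK'
  have hα : ∀ x, cjA N e g ≠ MulAut.conj x := fun x h => hgN (mem_of_inner N e hC h)
  have hp1 : (Fintype.card F - 1).minFac.Prime := Nat.minFac_prime (by omega)
  obtain ⟨χ, hχ1, hχ⟩ := moved_minus h4 _ hα
  obtain ⟨a, ha, hda⟩ := degree_of_moved N e hD hKD hle hNK hp hgK hχ
  rw [hχ1] at hda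
  rcases Nat.lt_or_ge 4 (Fintype.card F) with h5 | h5
  · have hp2 : (Fintype.card F + 1).minFac.Prime := Nat.minFac_prime (by omega)
    obtain ⟨ψ, hψ1, hψ⟩ := moved_plus h5 _ hα
    obtain ⟨b, hb, hdb⟩ := degree_of_moved N e hD hKD hle hNK hp hgK hψ
    rw [hψ1] at hdb
    exact ⟨1, 2, a, b, _, _, _, by decide, ha, hb, hp1, hp2, hp,
      (Nat.minFac_dvd _).trans ((Dvd.intro_left _ rfl).trans hda), (Dvd.intro _ rfl).trans hda,
      (Dvd.intro _ rfl).trans hdb, (Nat.minFac_dvd _).trans ((Dvd.intro_left _ rfl).trans hdb),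
      Nat.minFac_dvd _, Nat.minFac_dvd _⟩
  · have h40 : Fintype.card F = 4 := le_antisymm h5 h4
    -- the index is two
    have hs2 : N.relIndex K = 2 := by
      obtain ⟨x, hx⟩ := sq_inner h40 (cjA N e g)
      rw [← cjA_mul] at hx
      have hgg : g * g ∈ N := mem_of_inner N e hC hx
      have hN'n : (N.subgroupOf K).Normal := hN.subgroupOf K
      have h1 : orderOf ((⟨g, hgK⟩ : K) : K ⧸ N.subgroupOf K) = 2 := by
        have : Fact (Nat.Prime 2) := ⟨Nat.prime_two⟩
        refine orderOf_eq_prime ?_ ?_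
        · rw [← QuotientGroup.mk_pow, QuotientGroup.eq_one_iff, Subgroup.mem_subgroupOf, pow_two]
          exact hgg
        · rw [Ne, QuotientGroup.eq_one_iff, Subgroup.mem_subgroupOf]
          exact hgN
      have h2 : orderOf ((⟨g, hgK⟩ : K) : K ⧸ N.subgroupOf K) ∣ Nat.card (K ⧸ N.subgroupOf K) := orderOf_dvd_natCard _
      rw [h1] at h2
      have h3 : Nat.card (K ⧸ N.subgroupOf K) = N.relIndex K := rfl
      rw [h3] at h2
      exact ((Nat.prime_dvd_prime_iff_eq Nat.prime_two hp).1 h2).symm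
    rw [hs2, h40] at hda
    refine ⟨1, 0, a, a, 3, 2, 2, by decide, ha, ha, Nat.prime_three, Nat.prime_two, Nat.prime_two, ?_, ?_, ?_, ?_, ?_, ?_⟩
    · exact (Dvd.intro_left 2 rfl).trans hda
    · exact (Dvd.intro 3 rfl).trans hda
    · exact (Dvd.intro 3 rfl).trans hda
    · exact (Dvd.intro 3 rfl).trans hda
    · rw [h40, A1]
    · rw [h40, A0]; norm_num

end

end Cfsg.Agent.H671.FieldLink
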