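import Cfsg.Agent.H671.Comp
import Cfsg.Agent.H671.FieldLink
import Cfsg.Agent.H424.DegTools
import Cfsg.Agent.S0252
import Cfsg.Agent.S0253

/-!
# Degree graphs with three components (S4771; hub H5, helper671)
-/

set_option autoImplicit false

namespace Cfsg.Agent.H671.Three

open Cfsg Cfsg.Agent.Characters.Core Cfsg.Agent.H681.DegBasic Cfsg.Agent.H671.H5 Cfsg.Agent.H671.Link
  Cfsg.Agent.H671.Sep Cfsg.Agent.H671.Comp

universe u v

/-- Representatives of the components. -/
theorem rep_inj {V : Type u} {Γ : SimpleGraph V} (f : Fin 3 → V) (h : ∀ v, ∃ i, Γ.Reachable v (f i))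
    (hc : Nat.card Γ.ConnectedComponent = 3) {i j : Fin 3} (hij : Γ.Reachable (f i) (f j)) : i = j := by
  let F : Fin 3 → Γ.ConnectedComponent := fun i => Γ.connectedComponentMk (f i)
  have hF : Function.Surjective F := by
    intro x
    obtain ⟨v, rfl⟩ := x.exists_rep
    obtain ⟨i, hi⟩ := h v
    exact ⟨i, (SimpleGraph.ConnectedComponent.sound hi).symm⟩
  have hfin : Finite Γ.ConnectedComponent := Finite.of_surjective F hF
  have hb : Function.Bijective F := (Nat.bijective_iff_surjective_and_card F).2 ⟨hF, by rw [hc]; simp⟩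
  exact hb.1 (SimpleGraph.ConnectedComponent.sound hij)

/-- The degrees of `G` separate the three classes. -/
def Separated (q : ℕ) (G : Type u) [Group G] : Prop :=
  ∀ (p r : ℕ) (hp : p ∈ degreePrimes G) (hr : r ∈ degreePrimes G), (Gam G).Reachable ⟨p, hp⟩ ⟨r, hr⟩ →
    ∀ i j : Fin 3, p ∣ A q i → r ∣ A q j → i = j

theorem Separated.not_mixed {q : ℕ} {G : Type u} [Group G] (h : Separated q G) {n : ℕ} (hn : n ∈ charDegrees G) :
    ¬ Mixed q n := by
  rintro ⟨p, r, hp, hr, hpn, hrn, i, j, hij, hi, hj⟩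
  exact hij (h p r _ _ (reach hp hr hn hpn hrn) i j hi hj)

/-- two degrees sharing a prime -/
theorem Separated.two {q : ℕ} {G : Type u} [Group G] (h : Separated q G) {a b p r s : ℕ} (ha : a ∈ charDegrees G)
    (hb : b ∈ charDegrees G) (hp : p.Prime) (hr : r.Prime) (hs : s.Prime) (hpa : p ∣ a) (hsa : s ∣ a) (hsb : s ∣ b)
    (hrb : r ∣ b) {i j : Fin 3} (hi : p ∣ A q i) (hj : r ∣ A q j) : i = j :=
  h p r (mem_dp hp ha hpa) (mem_dp hr hb hrb) ((reach hp hs ha hpa hsa).trans (reach hs hr hb hsb hrb)) i j hi hj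

/-- A finite group all of whose irreducible characters are trivial is trivial. -/
theorem subsingleton_of_irr {G : Type u} [Group G] [Finite G] (h : ∀ χ : IrrCharacter G, (χ : G → ℂ) = 1) :
    Subsingleton G := by
  have h1 : Nat.card (IrrCharacter G) = 1 := by
    rw [Nat.card_eq_one_iff_unique]
    exact ⟨⟨fun a b => Subtype.ext ((h a).trans (h b).symm)⟩, ⟨⟨1, isIrr_one⟩⟩⟩
  rw [card_irr, Nat.card_eq_one_iff_unique] at h1
  refine ⟨fun a b => ?_⟩
  have h2 : ∀ a : G, a = 1 := fun a => by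
    have h3 : ConjClasses.mk a = ConjClasses.mk 1 := h1.1.elim _ _
    exact isConj_one_left.1 (ConjClasses.mk_eq_mk_iff_isConj.1 h3)
  rw [h2 a, h2 b]

/-- The perfect group with quotient `PSL(2, q)` is `PSL(2, q)`. -/
theorem trivial_kernel {G : Type u} [Group G] [Finite G] {F : Type} [Field F] [Fintype F] (hF : 4 ≤ Fintype.card F)
    (heven : Even (Fintype.card F)) (hS : Separated (Fintype.card F) G) (N M : Subgroup G) [hN : N.Normal] [hM : M.Normal]
    (hle : M ≤ N) (hperf : ⁅N, N⁆ = N) (e : N ⧸ M.subgroupOf N ≃* Matrix.ProjectiveSpecialLinearGroup (Fin 2) F)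
    (hq : Fintype.card F ∈ charDegrees (Matrix.ProjectiveSpecialLinearGroup (Fin 2) F))
    (hq1 : Fintype.card F - 1 ∈ charDegrees (Matrix.ProjectiveSpecialLinearGroup (Fin 2) F)) : M = ⊥ := by
  classical
  set M' := M.subgroupOf N with hM'
  have : Fintype M' := Fintype.ofFinite _
  have hp1 : (Fintype.card F - 1).minFac.Prime := Nat.minFac_prime (by omega)
  have hNS : ∀ {n : ℕ}, n ∈ charDegrees N → ¬ Mixed (Fintype.card F) n := by
    intro n hn hmix
    obtain ⟨m, hm, hnm⟩ := overN N hn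
    exact hS.not_mixed hm (hmix.mono hnm)
  have htriv : ∀ θ : IrrCharacter M', (θ : M' → ℂ) = 1 := by
    intro θ
    obtain ⟨χ, hχ⟩ := sep_over M' hF heven e θ (by
      intro χ _ d hd hmix
      exact hNS ⟨χ, rfl⟩ (hmix.mono (by rw [hd]; exact Dvd.intro _ rfl)))
    have hχ1 : (χ : N → ℂ) 1 = (charDegree (θ : M' → ℂ) : ℂ) := by
      have h1 := hχ 1
      rw [Subgroup.coe_one, Blocks.Basic.irr_one_eq_charDegree θ.2] at h1
      exact h1
    have hres : IsIrrCharacter M' (fun k : M' => (χ : N → ℂ) k) := by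
      have : (fun k : M' => (χ : N → ℂ) k) = (θ : M' → ℂ) := funext hχ
      rw [this]; exact θ.2
    have hmul : ∀ {b : ℕ}, b ∈ charDegrees (Matrix.ProjectiveSpecialLinearGroup (Fin 2) F) →
        b * charDegree (θ : M' → ℂ) ∈ charDegrees N := fun hb =>
      gallagher (QuotientGroup.mk' M') (QuotientGroup.mk'_surjective M') M'
        (fun k hk => (QuotientGroup.eq_one_iff k).2 hk) χ.2 hres hχ1 (equiv e hb)
    have h1 : charDegree (θ : M' → ℂ) = 1 := by
      by_contra hne
      obtain ⟨s, hs, hsd⟩ := Nat.exists_prime_and_dvd hne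
      obtain ⟨a, ha, hda⟩ := overN N (hmul hq)
      obtain ⟨b, hb, hdb⟩ := overN N (hmul hq1)
      have h0 : (0 : Fin 3) = 1 := hS.two ha hb Nat.prime_two hp1 hs
        ((Dvd.dvd.mul_right (even_iff_two_dvd.1 heven) _).trans hda) ((Dvd.dvd.mul_left hsd _).trans hda)
        ((Dvd.dvd.mul_left hsd _).trans hdb) ((Dvd.dvd.mul_right (Nat.minFac_dvd _) _).trans hdb)
        (by rw [A0]; exact even_iff_two_dvd.1 heven) (by rw [A1]; exact Nat.minFac_dvd _)
      exact absurd h0 (by decide)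
    -- the extension is linear, so trivial
    obtain ⟨f, hf⟩ := Characters.Linear.exists_hom_of_isIrrCharacter χ.2 (by rw [hχ1, h1, Nat.cast_one])
    have hf1 : ∀ x : N, f x = 1 := by
      have h2 : commutator N = ⊤ := by
        rw [eq_top_iff, ← Subgroup.map_subtype_le_map_subtype, Subgroup.map_subtype_commutator, hperf]
        exact Subgroup.map_subtype_le _
      intro x
      have h3 : x ∈ commutator N := h2 ▸ Subgroup.mem_top x
      exact Abelianization.commutator_subset_ker f h3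
    funext m
    rw [← hχ m, hf]
    simp [hf1]
  have hsub := subsingleton_of_irr htriv
  rw [eq_bot_iff]
  intro x hx
  have h1 : (⟨⟨x, hle hx⟩, Subgroup.mem_subgroupOf.2 hx⟩ : M') = 1 := Subsingleton.elim _ _
  have h2 := congrArg (fun y : M' => ((y : N) : G)) h1
  exact Subgroup.mem_bot.2 h2

/-- The characterization of the group. -/
theorem structure_of_sep {G : Type u} [Group G] [Finite G] {F : Type} [Field F] [Fintype F] [CharP F 2]
    (hF : 4 ≤ Fintype.card F) (hS : Separated (Fintype.card F) G) (N : Subgroup G) [hN : N.Normal]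
    (hsol : Group.IsSolvable (G ⧸ N)) (e : N ≃* Matrix.SpecialLinearGroup (Fin 2) F) :
    ∃ C : Subgroup G, (∀ a ∈ C, ∀ b ∈ C, a * b = b * a) ∧ Nonempty (G ≃* Matrix.SpecialLinearGroup (Fin 2) F × C) := by
  classical
  have hdvd2 : 2 ∣ Fintype.card F := by
    have h8 : (Fintype.card F : F) = 0 := FiniteField.cast_card_eq_zero F
    exact (CharP.cast_eq_zero_iff F 2 _).1 h8
  have hdeg := S4812.degrees F _ rfl hF
  have hp1 : (Fintype.card F - 1).minFac.Prime := Nat.minFac_prime (by omega)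
  have hcen : Subgroup.center N = ⊥ := by
    rw [eq_bot_iff]
    intro x hx
    have h1 : e x ∈ Subgroup.center (Matrix.SpecialLinearGroup (Fin 2) F) := by
      rw [Subgroup.mem_center_iff]
      intro g
      obtain ⟨y, rfl⟩ := e.surjective g
      rw [← map_mul, ← map_mul, Subgroup.mem_center_iff.1 hx y]
    rw [S4812.center_eq_bot F, Subgroup.mem_bot] at h1
    exact Subgroup.mem_bot.2 (e.injective (h1.trans (map_one e).symm))
  let C : Subgroup G := Subgroup.centralizer (N : Set G)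
  have hCn : C.Normal := inferInstance
  have hCmem : ∀ {x : G}, x ∈ C ↔ ∀ n ∈ N, n * x = x * n := fun {x} => Subgroup.mem_centralizer_iff
  have hNC : ∀ x ∈ N, x ∈ C → x = 1 := by
    intro x hx hxC
    have h1 : (⟨x, hx⟩ : N) ∈ Subgroup.center N := by
      rw [Subgroup.mem_center_iff]
      intro g
      exact Subtype.ext (hCmem.1 hxC g g.2)
    rw [hcen, Subgroup.mem_bot] at h1
    exact congrArg Subtype.val h1
  -- `G = N C`
  have hsup : N ⊔ C = ⊤ := by
    by_contra hne
    let π := QuotientGroup.mk' C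
    let N' : Subgroup (G ⧸ C) := N.map π
    have hN'n : N'.Normal := hN.map π (QuotientGroup.mk'_surjective C)
    let g : N →* N' := π.subgroupMap N
    have hgb : Function.Bijective g := by
      refine ⟨?_, MonoidHom.subgroupMap_surjective _ _⟩
      rw [injective_iff_map_eq_one]
      intro x hx
      have h1 : π (x : G) = 1 := congrArg Subtype.val hx
      have h2 : (x : G) ∈ C := (QuotientGroup.eq_one_iff (x : G)).1 h1
      exact Subtype.ext (hNC x x.2 h2)
    let e' : N' ≃* Matrix.SpecialLinearGroup (Fin 2) F := (MulEquiv.ofBijective g hgb).symm.trans e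
    have hC' : ∀ x : G ⧸ C, (∀ n ∈ N', x * n = n * x) → x = 1 := by
      intro x hx
      obtain ⟨y, rfl⟩ := QuotientGroup.mk_surjective x
      have h1 : y ∈ C := by
        rw [hCmem]
        intro n hn
        have h2 := hx (π n) (Subgroup.mem_map_of_mem _ hn)
        have h3 : π (y * n) = π (n * y) := by
          rw [map_mul, map_mul]; exact h2
        have h4 : (n * y)⁻¹ * (y * n) ∈ C := QuotientGroup.eq.1 h3.symm
        have h5 : (n * y)⁻¹ * (y * n) ∈ N := by
          have h6 : (n * y)⁻¹ * (y * n) = y⁻¹ * n⁻¹ * y * n := by group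
          rw [h6]
          have h7 := hN.conj_mem n⁻¹ (N.inv_mem hn) y⁻¹
          rw [inv_inv] at h7
          exact N.mul_mem h7 hn
        have h6 := hNC _ h5 h4
        rw [inv_mul_eq_one] at h6
        exact h6
      exact (QuotientGroup.eq_one_iff y).2 h1
    have hs' : Group.IsSolvable ((G ⧸ C) ⧸ N') := by
      let φ : G ⧸ N →* (G ⧸ C) ⧸ N' := QuotientGroup.lift N ((QuotientGroup.mk' N').comp π) (by
        intro x hx
        rw [MonoidHom.mem_ker, MonoidHom.comp_apply]
        exact (QuotientGroup.eq_one_iff _).2 (Subgroup.mem_map_of_mem _ hx))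
      refine Group.isSolvable_of_surjective (f := φ) ?_
      intro y
      obtain ⟨z, rfl⟩ := QuotientGroup.mk_surjective y
      obtain ⟨w, rfl⟩ := QuotientGroup.mk_surjective z
      exact ⟨(w : G ⧸ N), rfl⟩
    have hne' : N' ≠ ⊤ := by
      intro h
      apply hne
      rw [eq_top_iff]
      intro x _
      have h1 : π x ∈ N' := by rw [h]; exact Subgroup.mem_top _
      obtain ⟨n, hn, hnx⟩ := h1
      have h2 : n⁻¹ * x ∈ C := QuotientGroup.eq.1 hnx
      have h3 := Subgroup.mul_mem_sup hn h2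
      rwa [mul_inv_cancel_left] at h3
    obtain ⟨i, j, a, b, p, r, s, hij, ha, hb, hp, hr, hs, h1, h2, h3, h4, h5, h6⟩ :=
      FieldLink.field_link hF N' e' hC' hs' hne'
    exact hij (hS.two (quot C ha) (quot C hb) hp hr hs h1 h2 h3 h4 h5 h6)
  -- the direct product
  let m : N × C →* G :=
    { toFun := fun x => x.1 * x.2
      map_one' := by simp
      map_mul' := fun x y => by
        show ((x.1 * y.1 : N) : G) * ((x.2 * y.2 : C) : G) = x.1 * x.2 * (y.1 * y.2)
        have h1 := hCmem.1 x.2.2 y.1 y.1.2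
        rw [Subgroup.coe_mul, Subgroup.coe_mul]
        calc (x.1 : G) * y.1 * (x.2 * y.2) = x.1 * (y.1 * x.2) * y.2 := by group
          _ = x.1 * (x.2 * y.1) * y.2 := by rw [h1]
          _ = _ := by group }
  have hmb : Function.Bijective m := by
    constructor
    · rw [injective_iff_map_eq_one]
      rintro ⟨x, y⟩ hxy
      have h1 : (x : G) * y = 1 := hxy
      have h2 : (y : G) = (x : G)⁻¹ := by rw [eq_inv_iff_mul_eq_one, ← (hCmem.1 y.2 x x.2), h1]
      have h3 : (x : G) = 1 := by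
        apply hNC x x.2
        have h4 := C.inv_mem y.2
        rw [h2, inv_inv] at h4
        exact h4
      refine Prod.ext (Subtype.ext h3) (Subtype.ext ?_)
      show (y : G) = 1
      rw [h2, h3, inv_one]
    · intro x
      have hx : x ∈ N ⊔ C := hsup ▸ Subgroup.mem_top x
      obtain ⟨n, hn, c, hc, rfl⟩ := Subgroup.mem_sup_of_normal_left.1 hx
      exact ⟨(⟨n, hn⟩, ⟨c, hc⟩), rfl⟩
  let E : G ≃* Matrix.SpecialLinearGroup (Fin 2) F × C :=
    (MulEquiv.ofBijective m hmb).symm.trans (MulEquiv.prodCongr e (MulEquiv.refl C))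
  refine ⟨C, ?_, ⟨E⟩⟩
  -- `C` is abelian
  have hCc : ∀ a b : C, a * b = b * a := by
    rw [S0187.result]
    intro χ
    rw [Blocks.Basic.irr_one_eq_charDegree χ.2]
    by_contra hne
    have hne1 : charDegree (χ : C → ℂ) ≠ 1 := fun h => hne (by rw [h, Nat.cast_one])
    obtain ⟨s, hs, hsd⟩ := Nat.exists_prime_and_dvd hne1
    have ha := equiv E (H424.DegTools.mul_mem_prod ((hdeg (Fintype.card F)).2 (Or.inr (Or.inr (Or.inl rfl))))
      (⟨χ, rfl⟩ : charDegree (χ : C → ℂ) ∈ charDegrees C))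
    have hb := equiv E (H424.DegTools.mul_mem_prod ((hdeg (Fintype.card F - 1)).2 (Or.inr (Or.inl rfl)))
      (⟨χ, rfl⟩ : charDegree (χ : C → ℂ) ∈ charDegrees C))
    have h0 : (0 : Fin 3) = 1 := hS.two ha hb Nat.prime_two hp1 hs
        (Dvd.dvd.mul_right hdvd2 _) (Dvd.dvd.mul_left hsd _) (Dvd.dvd.mul_left hsd _)
        (Dvd.dvd.mul_right (Nat.minFac_dvd _) _) (by rw [A0]; exact hdvd2) (by rw [A1]; exact Nat.minFac_dvd _)
    exact absurd h0 (by decide)
  intro a ha b hb
  exact congrArg Subtype.val (hCc ⟨a, ha⟩ ⟨b, hb⟩)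

/-- The chief factor is simple if there is one factor. -/
noncomputable def oneE {G : Type u} [Group G] (T : Link.Top G) (hk : T.k = 1) :
    T.N ⧸ T.M.subgroupOf T.N ≃* T.S := by
  have hT : T.N ⧸ T.M.subgroupOf T.N ≃* T.Nb := by
    refine (QuotientGroup.quotientMulEquivOfEq ?_).trans
      (QuotientGroup.quotientKerEquivOfSurjective ((QuotientGroup.mk' T.M).subgroupMap T.N)
        (MonoidHom.subgroupMap_surjective _ _))
    ext x
    rw [Subgroup.mem_subgroupOf, MonoidHom.mem_ker]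
    constructor
    · intro h
      exact Subtype.ext ((QuotientGroup.eq_one_iff (x : G)).2 h)
    · intro h
      exact (QuotientGroup.eq_one_iff (x : G)).1 (congrArg Subtype.val h)
  have hu : Unique (Fin T.k) := by rw [hk]; infer_instance
  exact (hT.trans T.e).trans (MulEquiv.piUnique (fun _ : Fin T.k => T.S))

/-- The primes of one class are in one component of the degree graph of `PSL(2, q)`, `q` even. -/
theorem class_reach {S : Type v} [Group S] [Finite S] [IsSimpleGroup S] {F : Type} [Field F] [Fintype F] [CharP F 2]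
    (h4 : 4 ≤ Fintype.card F) (e : S ≃* Matrix.ProjectiveSpecialLinearGroup (Fin 2) F) {p r : ↥(degreePrimes S)} {i : Fin 3}
    (hp : (p : ℕ) ∣ A (Fintype.card F) i) (hr : (r : ℕ) ∣ A (Fintype.card F) i) : (Gam S).Reachable p r := by
  obtain ⟨hV, hA⟩ := S4812.result F _ rfl h4 (S := S) (Or.inl ⟨e⟩)
  have hpp : (p : ℕ).Prime := p.2.1
  have hrp : (r : ℕ).Prime := r.2.1
  apply reach_of
  intro hne
  have hcase : i = 0 ∨ i = 1 ∨ i = 2 := by
    fin_cases i
    · exact Or.inl rfl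
    · exact Or.inr (Or.inl rfl)
    · exact Or.inr (Or.inr rfl)
  rcases hcase with rfl | rfl | rfl
  · exfalso
    obtain ⟨n, -, hn⟩ := FiniteField.card F 2
    rw [A0, hn] at hp hr
    have h1 := (Nat.prime_dvd_prime_iff_eq hpp Nat.prime_two).1 (hpp.dvd_of_dvd_pow hp)
    have h2 := (Nat.prime_dvd_prime_iff_eq hrp Nat.prime_two).1 (hrp.dvd_of_dvd_pow hr)
    exact hne (h1.trans h2.symm)
  · exact (hA _ _).2 ⟨hne, hpp, hrp, Or.inr ⟨hp, hr⟩⟩
  · exact (hA _ _).2 ⟨hne, hpp, hrp, Or.inl ⟨hp, hr⟩⟩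

/-- `PSL(2, 5) ≅ PSL(2, 4)` -/
theorem l2_cases {S : Type v} [Group S] (h : IsL2 S) :
    (∃ (F : Type) (_ : Field F) (_ : Fintype F), CharP F 2 ∧ 4 ≤ Fintype.card F ∧
      Nonempty (S ≃* Matrix.ProjectiveSpecialLinearGroup (Fin 2) F)) ∨
    (∃ (F : Type) (_ : Field F) (_ : Fintype F) (t : ℕ), t.Prime ∧ t ≠ 2 ∧ CharP F t ∧ 5 < Fintype.card F ∧
      Nonempty (S ≃* Matrix.ProjectiveSpecialLinearGroup (Fin 2) F)) := by
  classical
  obtain ⟨F, iF, iF', h4, ⟨e⟩⟩ := h
  obtain ⟨t, ht⟩ := CharP.exists F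
  have htp : t.Prime := (CharP.char_is_prime_or_zero F t).resolve_right (CharP.char_ne_zero_of_finite F t)
  by_cases ht2 : t = 2
  · subst ht2
    exact Or.inl ⟨F, iF, iF', ht, h4, ⟨e⟩⟩
  by_cases h5 : 5 < Fintype.card F
  · exact Or.inr ⟨F, iF, iF', t, htp, ht2, ht, h5, ⟨e⟩⟩
  · left
    obtain ⟨n, -, hn⟩ := FiniteField.card F t
    have hodd : Odd (Fintype.card F) := by
      rw [hn]
      exact (htp.odd_of_ne_two ht2).pow
    have h50 : Fintype.card F = 5 := by
      rcases hodd with ⟨m, hm⟩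
      omega
    have hp : Fact (Nat.Prime 2) := ⟨Nat.prime_two⟩
    let K := GaloisField 2 2
    have iK : Fintype K := Fintype.ofFinite _
    have hK : Fintype.card K = 4 := by
      rw [← Nat.card_eq_fintype_card, GaloisField.card 2 2 (by norm_num)]
      norm_num
    obtain ⟨e1⟩ := S0253.result h50
    obtain ⟨e2⟩ := S0252.result hK
    exact ⟨K, inferInstance, iK, inferInstance, hK.ge, ⟨(e.trans e1).trans e2.symm⟩⟩

/-- Three components: the data. -/
theorem data_of_three (hIM : FactIM.{0}) (hC : FactConn.{0}) (hE : FactExt.{0}) {G : Type u} [Group G] [Finite G]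
    (T : Link.Top G) (h3 : Nat.card (Gam G).ConnectedComponent = 3) :
    T.k = 1 ∧ ∃ (F : Type) (_ : Field F) (_ : Fintype F), CharP F 2 ∧ 4 ≤ Fintype.card F ∧
      Nonempty (T.S ≃* Matrix.ProjectiveSpecialLinearGroup (Fin 2) F) ∧ Separated (Fintype.card F) G := by
  classical
  have key : ∀ f : Fin 3 → ↥(degreePrimes G), (∀ p : ↥(degreePrimes T.S), ∃ i,
      (Gam G).Reachable ⟨p, mem_of_S T p.2⟩ (f i)) → ∀ v, ∃ i, (Gam G).Reachable v (f i) := by
    rintro f h ⟨p, hp, n, hn, hpn⟩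
    obtain ⟨q, hq, hqS, hq', hr⟩ := T.link hE hp hn hpn
    obtain ⟨i, hi⟩ := h ⟨q, mem_dp_of_fact hIM T.na hq hqS⟩
    exact ⟨i, hr.trans hi⟩
  have h2 : ∃ p : ↥(degreePrimes T.S), True := by
    have h1 : Nat.card T.S ≠ 1 := by
      have := Finite.one_lt_card (α := T.S)
      omega
    obtain ⟨q, hq, hqS⟩ := Nat.exists_prime_and_dvd h1
    exact ⟨⟨q, mem_dp_of_fact hIM T.na hq hqS⟩, trivial⟩
  obtain ⟨p0, -⟩ := h2
  -- two representatives are impossible
  have two : ∀ a b : ↥(degreePrimes T.S), ¬ ∀ p : ↥(degreePrimes T.S),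
      (Gam G).Reachable ⟨p, mem_of_S T p.2⟩ ⟨a, mem_of_S T a.2⟩ ∨
        (Gam G).Reachable ⟨p, mem_of_S T p.2⟩ ⟨b, mem_of_S T b.2⟩ := by
    intro a b h
    have h5 := key ![⟨a, mem_of_S T a.2⟩, ⟨b, mem_of_S T b.2⟩, ⟨b, mem_of_S T b.2⟩] (by
      intro p
      rcases h p with h | h
      · exact ⟨0, h⟩
      · exact ⟨1, h⟩)
    have h6 := rep_inj _ h5 h3 (i := 1) (j := 2) (SimpleGraph.Reachable.refl _)
    exact absurd h6 (by decide)
  have hk : T.k = 1 := by
    by_contra hk
    have hk2 : 2 ≤ T.k := by have := T.kpos; omega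
    exact two p0 p0 fun p => Or.inl (reach_of_two T hk2 p p0)
  have hL : IsL2 T.S := by
    by_contra hL
    have h := (hC T.S T.na hL).preconnected
    exact two p0 p0 fun p => Or.inl (reach_of_simple T (h p p0))
  refine ⟨hk, ?_⟩
  rcases l2_cases hL with ⟨F, iF, iF', hch, h4, ⟨e⟩⟩ | ⟨F, iF, iF', t, htp, ht2, hch, h5, ⟨e⟩⟩
  · refine ⟨F, iF, iF', hch, h4, ⟨e⟩, ?_⟩
    set q := Fintype.card F with hq
    have hdvd2 : 2 ∣ q := by
      have h8 : (Fintype.card F : F) = 0 := FiniteField.cast_card_eq_zero F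
      exact (CharP.cast_eq_zero_iff F 2 _).1 h8
    obtain ⟨hV, hA⟩ := S4812.result F _ rfl h4 (S := T.S) (Or.inl ⟨e⟩)
    have hAi : ∀ i, A q i ≠ 1 := by
      intro i
      have hcase : i = 0 ∨ i = 1 ∨ i = 2 := by
        fin_cases i
        · exact Or.inl rfl
        · exact Or.inr (Or.inl rfl)
        · exact Or.inr (Or.inr rfl)
      rcases hcase with rfl | rfl | rfl
      · rw [A0]; omega
      · rw [A1]; omega
      · rw [A2]; omega
    have hAd : ∀ i, A q i ∣ q * (q ^ 2 - 1) := by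
      intro i
      have hsq : q ^ 2 - 1 = (q + 1) * (q - 1) := by
        have := Nat.sq_sub_sq q 1
        rwa [one_pow] at this
      rw [hsq]
      have hcase : i = 0 ∨ i = 1 ∨ i = 2 := by
        fin_cases i
        · exact Or.inl rfl
        · exact Or.inr (Or.inl rfl)
        · exact Or.inr (Or.inr rfl)
      rcases hcase with rfl | rfl | rfl
      · exact Dvd.intro _ rfl
      · exact Dvd.dvd.mul_left (Dvd.intro_left _ rfl) _
      · exact Dvd.dvd.mul_left (Dvd.intro _ rfl) _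
    have hmem : ∀ {x : ℕ} {i : Fin 3}, x.Prime → x ∣ A q i → x ∈ degreePrimes T.S := by
      intro x i hx h
      rw [hV]
      exact ⟨hx, h.trans (hAd i)⟩
    let f0 : Fin 3 → ↥(degreePrimes T.S) := fun i =>
      ⟨(A q i).minFac, hmem (Nat.minFac_prime (hAi i)) (Nat.minFac_dvd _)⟩
    have hf0 : ∀ (p : ↥(degreePrimes T.S)) (i : Fin 3), (p : ℕ) ∣ A q i → (Gam T.S).Reachable p (f0 i) := fun p i hp =>
      class_reach h4 e hp (Nat.minFac_dvd _)
    let f : Fin 3 → ↥(degreePrimes G) := fun i => ⟨f0 i, mem_of_S T (f0 i).2⟩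
    have hf : ∀ v, ∃ i, (Gam G).Reachable v (f i) := by
      apply key
      intro p
      have h5 : (p : ℕ) ∈ {r : ℕ | r.Prime ∧ r ∣ q * (q ^ 2 - 1)} := hV ▸ p.2
      obtain ⟨hpp, hpd⟩ := h5
      have hsq : q ^ 2 - 1 = (q + 1) * (q - 1) := by
        have := Nat.sq_sub_sq q 1
        rwa [one_pow] at this
      rcases (Nat.Prime.dvd_mul hpp).1 hpd with h | h
      · exact ⟨0, reach_of_simple T (hf0 p 0 h)⟩
      · rw [hsq, Nat.Prime.dvd_mul hpp] at h
        rcases h with h | h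
        · exact ⟨2, reach_of_simple T (hf0 p 2 h)⟩
        · exact ⟨1, reach_of_simple T (hf0 p 1 h)⟩
    intro p r hp hr hreach i j hi hj
    have h6 := reach_of_simple T (hf0 ⟨p, hmem hp.1 hi⟩ i hi)
    have h7 := reach_of_simple T (hf0 ⟨r, hmem hr.1 hj⟩ j hj)
    exact rep_inj f hf h3 ((h6.symm.trans hreach).trans h7)
  · exfalso
    have htf : Fact t.Prime := ⟨htp⟩
    set q := Fintype.card F with hq
    obtain ⟨n, -, hn⟩ := FiniteField.card F t
    obtain ⟨hV, hA⟩ := S4774.result F t ht2 q rfl h5 (S := T.S) (Or.inl ⟨e⟩)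
    have hdvdq : ∀ {p : ℕ}, p.Prime → p ∣ q → p = t := by
      intro p hp hpq
      rw [hq, hn] at hpq
      exact (Nat.prime_dvd_prime_iff_eq hp htp).1 (hp.dvd_of_dvd_pow hpq)
    have hm : ∀ {x : ℕ}, x.Prime → x ∣ q * (q ^ 2 - 1) → x ∈ degreePrimes T.S := by
      intro x hx h
      rw [hV]; exact ⟨hx, h⟩
    have h3' : t ∣ q := by rw [hq, hn]; exact dvd_pow_self _ n.pos.ne'
    have hodd : Odd q := by
      rw [hq, hn]
      exact (htp.odd_of_ne_two ht2).pow
    have hsq : q ^ 2 - 1 = (q + 1) * (q - 1) := by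
      have := Nat.sq_sub_sq q 1
      rwa [one_pow] at this
    have h2 : 2 ∣ q ^ 2 - 1 := by
      rw [hsq]
      obtain ⟨m, hm⟩ := hodd
      exact Dvd.dvd.mul_right ⟨m + 1, by omega⟩ _
    refine two ⟨t, hm htp (Dvd.dvd.mul_right h3' _)⟩ ⟨2, hm Nat.prime_two (Dvd.dvd.mul_left h2 _)⟩ fun p => ?_
    have h5 : (p : ℕ) ∈ {r : ℕ | r.Prime ∧ r ∣ q * (q ^ 2 - 1)} := hV ▸ p.2
    obtain ⟨hp, hpd⟩ := h5
    rcases (Nat.Prime.dvd_mul hp).1 hpd with h | h
    · left
      apply reach_of_simple T (p := p) (q := ⟨t, hm htp (Dvd.dvd.mul_right h3' _)⟩)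
      apply reach_of
      intro hne
      exact absurd (hdvdq hp h) hne
    · right
      apply reach_of_simple T (p := p) (q := ⟨2, hm Nat.prime_two (Dvd.dvd.mul_left h2 _)⟩)
      apply reach_of
      intro hne
      exact (hA _ _).2 ⟨hne, hp, Nat.prime_two, h, h2, Or.inr (Or.inl rfl)⟩

theorem exists_small {C : Type u} [Group C] [Finite C] (h : ∀ a b : C, a * b = b * a) :
    ∃ (B : Type) (_ : CommGroup B), Nonempty (C ≃* B) := by
  let iC : CommGroup C := { (inferInstance : Group C) with mul_comm := h }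
  have : Small.{0} C := inferInstance
  exact ⟨Shrink.{0} C, inferInstance, ⟨(Shrink.mulEquiv (α := C)).symm⟩⟩

/-- Three components imply the structure. -/
theorem forward (hIM : FactIM.{0}) (hC : FactConn.{0}) (hE : FactExt.{0}) {G : Type u} [Group G] [Finite G]
    (hG : ¬ Group.IsSolvable G) (h3 : Nat.card (Gam G).ConnectedComponent = 3) :
    ∃ (F : Type) (_ : Field F) (_ : Fintype F) (A : Type) (_ : CommGroup A), CharP F 2 ∧ 4 ≤ Fintype.card F ∧
      Nonempty (G ≃* (Matrix.SpecialLinearGroup (Fin 2) F × A)) := by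
  classical
  obtain ⟨T⟩ := Link.Top.exists hG
  obtain ⟨hk, F, iF, iF', hch, h4, ⟨e⟩, hS⟩ := data_of_three hIM hC hE T h3
  have hdvd2 : 2 ∣ Fintype.card F := by
    have h8 : (Fintype.card F : F) = 0 := FiniteField.cast_card_eq_zero F
    exact (CharP.cast_eq_zero_iff F 2 _).1 h8
  have heven : Even (Fintype.card F) := even_iff_two_dvd.2 hdvd2
  have hdeg := S4812.degrees F _ rfl h4
  have hM := trivial_kernel (G := G) h4 heven hS T.N T.M T.lt.le T.perf ((oneE T hk).trans e)
    (equiv L2Inv.prE.symm ((hdeg _).2 (Or.inr (Or.inr (Or.inl rfl)))))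
    (equiv L2Inv.prE.symm ((hdeg _).2 (Or.inr (Or.inl rfl))))
  have hbot : T.M.subgroupOf T.N = ⊥ := by rw [hM, Subgroup.bot_subgroupOf]
  let eN : T.N ≃* Matrix.SpecialLinearGroup (Fin 2) F :=
    ((QuotientGroup.quotientBot.symm.trans (QuotientGroup.quotientMulEquivOfEq hbot.symm)).trans
      ((oneE T hk).trans e)).trans L2Inv.prE.symm
  obtain ⟨C, hCc, ⟨E⟩⟩ := structure_of_sep h4 hS T.N T.sol eN
  obtain ⟨B, iB, ⟨EC⟩⟩ := exists_small (C := C) (fun a b => Subtype.ext (hCc a a.2 b b.2))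
  exact ⟨F, iF, iF', B, iB, hch, h4, ⟨E.trans (MulEquiv.prodCongr (MulEquiv.refl _) EC)⟩⟩

theorem mul_of_prod {G : Type u} {H : Type v} [Group G] [Group H] [Finite G] [Finite H] {d : ℕ}
    (h : d ∈ charDegrees (G × H)) : ∃ a ∈ charDegrees G, ∃ b ∈ charDegrees H, d = a * b := by
  obtain ⟨χ, hχ, h1⟩ := mem_charDegrees.1 h
  obtain ⟨φ, ψ, hφ, hψ, rfl⟩ := (S0188.result χ).1 hχ
  obtain ⟨a, -, ha⟩ := isIrr_apply_one hφ
  obtain ⟨b, -, hb⟩ := isIrr_apply_one hψ
  refine ⟨a, mem_charDegrees.2 ⟨φ, hφ, ha⟩, b, mem_charDegrees.2 ⟨ψ, hψ, hb⟩, ?_⟩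
  have h2 : φ 1 * ψ 1 = (d : ℂ) := h1
  rw [ha, hb] at h2
  exact_mod_cast h2.symm

/-- Conversely. -/
theorem backward {G : Type u} [Group G] [Finite G] {F : Type v} [Field F] [Fintype F] [CharP F 2] {B : Type v} [CommGroup B]
    (h4 : 4 ≤ Fintype.card F) (E : G ≃* (Matrix.SpecialLinearGroup (Fin 2) F × B)) :
    Nat.card (Gam G).ConnectedComponent = 3 := by
  classical
  set q := Fintype.card F with hq
  have hfin : Finite (Matrix.SpecialLinearGroup (Fin 2) F × B) := Finite.of_equiv _ E.toEquiv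
  have hfinA : Finite B := Finite.of_surjective (Prod.snd : Matrix.SpecialLinearGroup (Fin 2) F × B → B) Prod.snd_surjective
  have hdvd2 : 2 ∣ q := by
    have h8 : (Fintype.card F : F) = 0 := FiniteField.cast_card_eq_zero F
    exact (CharP.cast_eq_zero_iff F 2 _).1 h8
  have heven : Even q := even_iff_two_dvd.2 hdvd2
  have hdeg : ∀ n, n ∈ charDegrees G ↔ n ∈ charDegrees (Matrix.SpecialLinearGroup (Fin 2) F) := by
    intro n
    rw [S4812.charDegrees_equiv E]
    constructor
    · intro h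
      obtain ⟨a, ha, b, hb, rfl⟩ := mul_of_prod h
      obtain ⟨χ, hχ, hχ1⟩ := mem_charDegrees.1 hb
      have h1 := S0187.result.1 (fun a b : B => mul_comm a b) ⟨χ, hχ⟩
      have h2 : χ 1 = 1 := h1
      rw [hχ1] at h2
      have h3 : b = 1 := by exact_mod_cast h2
      rwa [h3, mul_one]
    · intro h
      have := H424.DegTools.mul_mem_prod h (one_mem (G := B))
      rwa [mul_one] at this
  have hdp : degreePrimes G = degreePrimes (Matrix.SpecialLinearGroup (Fin 2) F) := by
    ext p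
    show (p.Prime ∧ ∃ d ∈ charDegrees G, p ∣ d) ↔ (p.Prime ∧ ∃ d ∈ charDegrees _, p ∣ d)
    simp only [hdeg]
  have hadj : ∀ r s, (degreeGraph G).Adj r s ↔ (degreeGraph (Matrix.SpecialLinearGroup (Fin 2) F)).Adj r s := by
    intro r s
    show (r ≠ s ∧ r.Prime ∧ s.Prime ∧ ∃ d ∈ charDegrees G, r * s ∣ d) ↔
      (r ≠ s ∧ r.Prime ∧ s.Prime ∧ ∃ d ∈ charDegrees _, r * s ∣ d)
    simp only [hdeg]
  obtain ⟨hV, hA⟩ := S4812.result F _ rfl h4 (S := Matrix.SpecialLinearGroup (Fin 2) F) (Or.inr ⟨MulEquiv.refl _⟩)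
  rw [← hq] at hV hA
  have hcase3 : ∀ i : Fin 3, i = 0 ∨ i = 1 ∨ i = 2 := by
    intro i
    fin_cases i
    · exact Or.inl rfl
    · exact Or.inr (Or.inl rfl)
    · exact Or.inr (Or.inr rfl)
  have hAi : ∀ i, A q i ≠ 1 := by
    intro i
    rcases hcase3 i with rfl | rfl | rfl
    · rw [A0]; omega
    · rw [A1]; omega
    · rw [A2]; omega
  have hsq : q ^ 2 - 1 = (q + 1) * (q - 1) := by
    have := Nat.sq_sub_sq q 1
    rwa [one_pow] at this
  have hAd : ∀ i, A q i ∣ q * (q ^ 2 - 1) := by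
    intro i
    rw [hsq]
    rcases hcase3 i with rfl | rfl | rfl
    · exact Dvd.intro _ rfl
    · exact Dvd.dvd.mul_left (Dvd.intro_left _ rfl) _
    · exact Dvd.dvd.mul_left (Dvd.intro _ rfl) _
  have hmem : ∀ {x : ℕ} {i : Fin 3}, x.Prime → x ∣ A q i → x ∈ degreePrimes G := by
    intro x i hx h
    rw [hdp, hV]
    exact ⟨hx, h.trans (hAd i)⟩
  -- reachable vertices are in the same class
  have huniq : ∀ {p : ℕ} {i j : Fin 3}, p.Prime → p ∣ A q i → p ∣ A q j → j = i := by
    intro p i j hp hi hj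
    exact class_unique h4 heven hi hj (by rw [Nat.coprime_self]; exact hp.one_lt.ne')
  have hstep : ∀ u w : ↥(degreePrimes G), (Gam G).Adj u w → ∀ i, (u : ℕ) ∣ A q i → (w : ℕ) ∣ A q i := by
    intro u w huw i hi
    have h1 : (degreeGraph G).Adj u w := huw
    rw [hadj, hA] at h1
    obtain ⟨-, hu, hw, h1 | h1⟩ := h1
    · have := huniq hu hi (j := 2) h1.1
      rw [← this]; exact h1.2
    · have := huniq hu hi (j := 1) h1.1
      rw [← this]; exact h1.2
  have hwalk : ∀ u w : ↥(degreePrimes G), (Gam G).Reachable u w → ∀ i, (u : ℕ) ∣ A q i → (w : ℕ) ∣ A q i := by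
    rintro u w ⟨p⟩
    induction p with
    | nil => intro i h; exact h
    | cons hadj' _ ih => intro i h; exact ih i (hstep _ _ hadj' i h)
  let f : Fin 3 → ↥(degreePrimes G) := fun i => ⟨(A q i).minFac, hmem (Nat.minFac_prime (hAi i)) (Nat.minFac_dvd _)⟩
  have hf : ∀ i, ((f i : ↥(degreePrimes G)) : ℕ) = (A q i).minFac := fun i => rfl
  let Φ : Fin 3 → (Gam G).ConnectedComponent := fun i => (Gam G).connectedComponentMk (f i)
  have hΦ : Function.Bijective Φ := by
    constructor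
    · intro i j hij
      have h1 : (Gam G).Reachable (f i) (f j) := SimpleGraph.ConnectedComponent.exact hij
      have h2 := hwalk _ _ h1 i (by rw [hf]; exact Nat.minFac_dvd _)
      exact huniq (f j).2.1 (by rw [hf]; exact Nat.minFac_dvd _) h2
    · intro x
      obtain ⟨v, rfl⟩ := x.exists_rep
      have h5 : (v : ℕ) ∈ {r : ℕ | r.Prime ∧ r ∣ q * (q ^ 2 - 1)} := by
        rw [← hV, ← hdp]; exact v.2
      obtain ⟨hp, hpd⟩ := h5
      have hcls : ∃ i, (v : ℕ) ∣ A q i := by
        rcases (Nat.Prime.dvd_mul hp).1 hpd with h | h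
        · exact ⟨0, h⟩
        · rw [hsq, Nat.Prime.dvd_mul hp] at h
          rcases h with h | h
          · exact ⟨2, h⟩
          · exact ⟨1, h⟩
      obtain ⟨i, hi⟩ := hcls
      refine ⟨i, ?_⟩
      apply SimpleGraph.ConnectedComponent.sound
      by_cases hvf : (f i) = v
      · rw [hvf]
      · apply SimpleGraph.Adj.reachable
        have hne : ((f i : ↥(degreePrimes G)) : ℕ) ≠ v := fun h => hvf (Subtype.ext h)
        have hfi : ((f i : ↥(degreePrimes G)) : ℕ) ∣ A q i := by rw [hf]; exact Nat.minFac_dvd _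
        show (degreeGraph G).Adj _ _
        rw [hadj, hA]
        rcases hcase3 i with rfl | rfl | rfl
        · exfalso
          obtain ⟨n, -, hn⟩ := FiniteField.card F 2
          rw [A0, hq, hn] at hi hfi
          have h1 := (Nat.prime_dvd_prime_iff_eq hp Nat.prime_two).1 (hp.dvd_of_dvd_pow hi)
          have h2 := (Nat.prime_dvd_prime_iff_eq (f 0).2.1 Nat.prime_two).1 ((f 0).2.1.dvd_of_dvd_pow hfi)
          exact hne (h2.trans h1.symm)
        · exact ⟨hne, (f 1).2.1, hp, Or.inr ⟨hfi, hi⟩⟩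
        · exact ⟨hne, (f 2).2.1, hp, Or.inl ⟨hfi, hi⟩⟩
  rw [← Nat.card_congr (Equiv.ofBijective Φ hΦ)]
  simp

/-- **S4771** from the facts on simple groups. -/
theorem three_iff (hIM : FactIM.{0}) (hC : FactConn.{0}) (hE : FactExt.{0}) {G : Type u} [Group G] [Finite G]
    (hG : ¬ Group.IsSolvable G) : Nat.card (Gam G).ConnectedComponent = 3 ↔
      ∃ (F : Type) (_ : Field F) (_ : Fintype F) (A : Type) (_ : CommGroup A), CharP F 2 ∧ 4 ≤ Fintype.card F ∧
        Nonempty (G ≃* (Matrix.SpecialLinearGroup (Fin 2) F × A)) := by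
  constructor
  · exact forward hIM hC hE hG
  · rintro ⟨F, iF, iF', A, iA, hch, h4, ⟨E⟩⟩
    exact backward h4 E

end Cfsg.Agent.H671.Three
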