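import Cfsg.Agent.H671.GraphRows
import Cfsg.Agent.H664.R1.U3Graph

/-!
# Assembly of `FactConn`, `FactInd`, `FactTri` (hub H5, helper671)

* `Herzog` : a simple group whose order has at most three prime divisors is a `PSL` or a `PSU` (hypothesis here, from
  `H35.isL2_or_isK3`);
* `graph_split` : every nonabelian simple group other than `PSL(2,F)` satisfies `GFacts` or is sporadic.
-/

set_option autoImplicit false

namespace Cfsg.Agent.H671.GraphAsm

open Cfsg Cfsg.Agent.H671.H5

universe u

/-- Every finite simple group is known. -/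
def KnownAll : Prop := ∀ (X : Type u) [Group X] [Finite X] [IsSimpleGroup X], IsKnownSimple' X

theorem not_prime_cyclic {S : Type u} [Group S] (hna : ¬ IsMulCommutative S) : ¬ IsPrimeCyclic S := by
  intro h
  apply hna
  have : Fact (Nat.card S).Prime := ⟨h⟩
  have h1 : IsCyclic S := isCyclic_of_prime_card rfl
  exact ⟨⟨fun a b => (IsCyclic.commGroup (α := S)).mul_comm a b⟩⟩

/-- A nonabelian simple group whose order has at most three prime divisors is a `PSL` or a `PSU`. -/
def Herzog : Prop := ∀ (S : Type u) [Group S] [Finite S] [IsSimpleGroup S], ¬ IsMulCommutative S →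
  (Nat.card S).primeFactors.card ≤ 3 → IsL2 S ∨ IsPSL S ∨ IsPSU S

/-- a triangle for `PSU(3,4)` -/
def TriU34 : Prop := ∀ (S : Type u) [Group S] (F : Type) [Field F] [Fintype F], Fintype.card F = 16 →
  Nonempty (S ≃* PSU 3 F 4) → ∃ a b c : ℕ, Adj a b S ∧ Adj b c S ∧ Adj a c S

theorem u3 {S : Type u} [Group S] [Finite S] (h34 : TriU34.{u}) (h : H113.PSU.Main.IsU3 S) : GFacts S := by
  obtain ⟨F, _, _, q, hF, hq2, ⟨e⟩⟩ := h
  have hq : 3 ≤ q := by
    by_contra hcon
    have h1 : 1 < Fintype.card F := Fintype.one_lt_card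
    rw [hF] at h1
    have : q = 0 ∨ q = 1 := by omega
    rcases this with rfl | rfl <;> simp at h1
  obtain ⟨p, D⟩ := H664.R1.U3.exists_DD hF hq e
  refine ⟨D.conn, fun _ ha _ hb _ hc h1 h2 h3 => D.indep ha hb hc h1 h2 h3, ?_⟩
  rcases Nat.even_or_odd q with ho | ho
  · by_cases h4 : q = 4
    · subst h4
      exact h34 S F (by rw [hF]; norm_num) ⟨e⟩
    · exact D.tri_even ho h4
  · obtain ⟨h1, r, h2, h3⟩ := D.tri_odd ho
    exact ⟨p, 2, r, h1, h2, h3⟩

/-- the rows which are still missing -/
structure Rest : Prop where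
  u34 : TriU34.{u}
  sp43 : H477.HC.TSp43
  sp62 : H477.HC.TSp62
  sp63 : H477.HC.RSp63
  o8m : H477.HC.RO8m
  g2 : ∀ (S : Type u) [Group S] [Finite S] [IsSimpleGroup S], ¬ IsMulCommutative S →
    4 ≤ (Nat.card S).primeFactors.card → Lie.IsoChevG2 S → GFacts S
  d4 : ∀ (S : Type u) [Group S] [Finite S] [IsSimpleGroup S], ¬ IsMulCommutative S →
    4 ≤ (Nat.card S).primeFactors.card → Lie.Iso3D4 S → GFacts S
  tits : ∀ (S : Type u) [Group S] [Finite S] [IsSimpleGroup S], Lie.IsoTits S → GFacts S

theorem graph_split (hK : KnownAll.{u}) (hH : Herzog.{u}) (R : Rest.{u}) (S : Type u) [Group S] [Finite S]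
    [IsSimpleGroup S] (hna : ¬ IsMulCommutative S) (hL : ¬ IsL2 S) : GFacts S ∨ IsSporadicGroup S := by
  have hpsl : IsPSL S → GFacts S := psl hL
  have hpsu : IsPSU S → GFacts S := psu (u3 R.u34)
  by_cases h4 : 4 ≤ (Nat.card S).primeFactors.card
  · rcases hK S with h | h | h | h | h | h | h | h | h | h
    · exact absurd h (not_prime_cyclic hna)
    · exact Or.inl (alt hL h)
    · exact Or.inl (hpsl h)
    · exact Or.inl (psp R.sp43 R.sp62 R.sp63 h)
    · exact Or.inl (hpsu h)
    · exact Or.inl (omega_odd h)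
    · exact Or.inl (omega_plus h)
    · exact Or.inl (omega_minus R.o8m h)
    · left
      rcases h with h | h | h | h | h | h | h | h | h | h | h
      · exact R.g2 S hna h4 h
      · exact f4 hna h4 h
      · exact e6 hna h4 h
      · exact e7 hna h4 h
      · exact e8 hna h4 h
      · exact twE6 hna h4 h
      · exact R.d4 S hna h4 h
      · exact suz h
      · exact ree h
      · exact twF4 hna h
      · exact R.tits S h
    · exact Or.inr h
  · left
    rcases hH S hna (by omega) with h | h | h
    · exact absurd h hL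
    · exact hpsl h
    · exact hpsu h

/-- **`FactConn`** -/
theorem factConn (hK : KnownAll.{u}) (hH : Herzog.{u}) (R : Rest.{u})
    (hs : ∀ (S : Type u) [Group S] [Finite S] [IsSimpleGroup S], IsSporadicGroup S →
      ((degreeGraph S).induce (degreePrimes S)).Connected) : FactConn.{u} := by
  intro S _ _ _ hna hL
  rcases graph_split hK hH R S hna hL with h | h
  · exact h.conn
  · exact hs S h

/-- **`FactInd`** -/
theorem factInd (hK : KnownAll.{u}) (hH : Herzog.{u}) (R : Rest.{u})
    (hs : ∀ (S : Type u) [Group S] [Finite S] [IsSimpleGroup S], IsSporadicGroup S →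
      ∀ p ∈ degreePrimes S, ∀ q ∈ degreePrimes S, ∀ r ∈ degreePrimes S,
        p ≠ q → q ≠ r → p ≠ r → Adj p q S ∨ Adj q r S ∨ Adj p r S) : FactInd.{u} := by
  intro S _ _ _ hna hL
  rcases graph_split hK hH R S hna hL with h | h
  · exact h.ind
  · exact hs S h

/-- **`FactTri`** -/
theorem factTri (hK : KnownAll.{u}) (hH : Herzog.{u}) (R : Rest.{u})
    (hs : ∀ (S : Type u) [Group S] [Finite S] [IsSimpleGroup S], IsSporadicGroup S →
      ∃ p q r : ℕ, Adj p q S ∧ Adj q r S ∧ Adj p r S) : FactTri.{u} := by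
  intro S _ _ _ hna hL
  rcases graph_split hK hH R S hna hL with h | h
  · exact h.tri
  · exact hs S h

end Cfsg.Agent.H671.GraphAsm
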