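import Cfsg.Agent.H671.H5Facts
import Cfsg.Agent.H424.DegTools
import Cfsg.Agent.H53.HC.BigFacts
import Cfsg.Agent.H396.HasCG
import Cfsg.Agent.H996.Deg.RgdEdge

/-!
# The graph facts of one simple group (hub H5, helper671)

* `GFacts S` : the degree graph of `S` is connected, among three vertices two are adjacent, there is a triangle;
* `GFacts.congr` : along an isomorphism;
* `of_big`, `of_big_cg` : from a big character and an edge at the characteristic, for `|S|` with four prime divisors.
-/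

set_option autoImplicit false

namespace Cfsg.Agent.H671.GraphAsm

open Cfsg Cfsg.Agent.H671.H5 Cfsg.Agent.H53.HC

universe u v

structure GFacts (S : Type u) [Group S] : Prop where
  conn : ((degreeGraph S).induce (degreePrimes S)).Connected
  ind : ∀ p ∈ degreePrimes S, ∀ q ∈ degreePrimes S, ∀ r ∈ degreePrimes S,
    p ≠ q → q ≠ r → p ≠ r → Adj p q S ∨ Adj q r S ∨ Adj p r S
  tri : ∃ p q r : ℕ, Adj p q S ∧ Adj q r S ∧ Adj p r S

theorem GFacts.congr {S : Type u} [Group S] {S' : Type v} [Group S'] (e : S ≃* S') (h : GFacts S') : GFacts S := by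
  obtain ⟨h1, h2, h3⟩ := h
  have e1 := H424.DegTools.degreeGraph_congr e
  have e2 := H424.DegTools.degreePrimes_congr e
  refine ⟨?_, ?_, ?_⟩
  · rw [e1, e2]; exact h1
  · unfold Adj at h2 ⊢
    rw [e1, e2]; exact h2
  · unfold Adj at h3 ⊢
    rw [e1]; exact h3

/-- **A triangle** from a big character. -/
theorem tri_of_big {S : Type u} [Group S] [Finite S] (h4 : 4 ≤ (Nat.card S).primeFactors.card) {r : ℕ}
    (h : Big r S) : ∃ p q s : ℕ, Adj p q S ∧ Adj q s S ∧ Adj p s S := by
  have h5 : 2 < ((Nat.card S).primeFactors.erase r).card := by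
    have := Finset.pred_card_le_card_erase (s := (Nat.card S).primeFactors) (a := r)
    omega
  obtain ⟨p, q, s, hp, hq, hs, h6, h7, h8⟩ := Finset.two_lt_card_iff.1 h5
  rw [Finset.mem_erase, Nat.mem_primeFactors] at hp hq hs
  exact h.tri hp.2.1 hq.2.1 hs.2.1 h6 h8 h7 hp.2.2.1 hq.2.2.1 hs.2.2.1 hp.1 hq.1 hs.1

/-- A big character and an edge at the characteristic. -/
theorem of_big {S : Type u} [Group S] [Finite S] (h4 : 4 ≤ (Nat.card S).primeFactors.card) {r l : ℕ}
    (hB : Big r S) (he : Adj r l S) : GFacts S :=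
  ⟨hB.conn he, fun _ hp _ hq _ hs h1 h2 h3 => hB.ind hp hq hs h1 h2 h3, tri_of_big h4 hB⟩

theorem of_big_cg {S : Type u} [Group S] [Finite S] [IsSimpleGroup S] (hna : ¬ IsMulCommutative S)
    (h4 : 4 ≤ (Nat.card S).primeFactors.card) {r : ℕ} (hr : r.Prime) (hB : Big r S) (hC : H396.HasCG r S) :
    GFacts S := by
  obtain ⟨l, -, -, he⟩ := H996.Deg.adj hr hna hC
  exact of_big h4 hB he

end Cfsg.Agent.H671.GraphAsm
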