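import Cfsg.Agent.S0000
import Cfsg.Agent.H35.ThreePrimes
import Cfsg.Agent.H671.GraphAll

/-!
# The hypotheses `KnownAll` and `Herzog` of the assembly (hub H5, helper671)

This module imports the classification `S0000`.
-/

set_option autoImplicit false

namespace Cfsg.Agent.H671.GraphAsm

open Cfsg Cfsg.Agent.H671.H5

universe u

theorem knownAll : KnownAll.{u} := fun _ _ _ _ => S0000.result

theorem herzog : Herzog.{u} := by
  intro S _ _ _ hna h3
  rcases H35.isL2_or_isK3 hna h3 with h | h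
  · exact Or.inl h
  · rcases h with ⟨F, i1, i2, hF, e⟩ | ⟨F, i1, i2, hF, e⟩ | ⟨F, i1, i2, hF, e⟩
    · exact Or.inr (Or.inl ⟨F, i1, i2, 3, by norm_num, fun h => by omega, e⟩)
    · exact Or.inr (Or.inr ⟨F, i1, i2, 3, 3, by rw [hF]; norm_num, by norm_num, by norm_num, e⟩)
    · exact Or.inr (Or.inr ⟨F, i1, i2, 4, 2, by rw [hF]; norm_num, by norm_num, by norm_num, e⟩)

end Cfsg.Agent.H671.GraphAsm
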