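import Cfsg.Agent.H671.GraphBase
import Cfsg.Agent.S0252
import Cfsg.Agent.S0254
import Cfsg.Agent.H600.AltRow
import Cfsg.Agent.H113.PSL.Main
import Cfsg.Agent.H113.PSU.Main
import Cfsg.Agent.H732.DegSz
import Cfsg.Agent.H732.DegRee
import Cfsg.Agent.H53.HC.ExcGraph
import Cfsg.Agent.H996.Deg.Two
import Cfsg.Agent.H996.Deg.TwFFour
import Cfsg.Agent.H477.HC.FactsC
import Cfsg.Agent.H677.DG.Tri42
import Cfsg.Agent.H42.Deg.F4Rows

/-!
# The graph facts of the simple groups of Lie type and of the alternating groups (hub H5, helper671)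

One theorem `GFacts S` for each family; the sporadic groups and the Tits group are in `GraphAll`.
-/

set_option autoImplicit false

namespace Cfsg.Agent.H671.GraphAsm

open Cfsg Cfsg.Agent.H671.H5 Cfsg.Agent.H53.HC

universe u

theorem isL2_alt_five {S : Type u} [Group S] (e : S ≃* alternatingGroup (Fin 5)) : IsL2 S := by
  let _ : Fintype (GaloisField 2 2) := Fintype.ofFinite _
  have h4 : Fintype.card (GaloisField 2 2) = 4 := by
    rw [← Nat.card_eq_fintype_card, GaloisField.card 2 2 (by norm_num)]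
    norm_num
  obtain ⟨e'⟩ := S0252.result h4
  exact ⟨GaloisField 2 2, inferInstance, inferInstance, by rw [h4], ⟨e.trans e'.symm⟩⟩

theorem isL2_alt_six {S : Type u} [Group S] (e : S ≃* alternatingGroup (Fin 6)) : IsL2 S := by
  let _ : Fintype (GaloisField 3 2) := Fintype.ofFinite _
  have h9 : Fintype.card (GaloisField 3 2) = 9 := by
    rw [← Nat.card_eq_fintype_card, GaloisField.card 3 2 (by norm_num)]
    norm_num
  obtain ⟨e'⟩ := S0254.result h9
  exact ⟨GaloisField 3 2, inferInstance, inferInstance, by rw [h9]; norm_num, ⟨e.trans e'.symm⟩⟩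

/-- alternating groups -/
theorem alt {S : Type u} [Group S] (hL : ¬ IsL2 S) (h : IsAlternating S) : GFacts S := by
  obtain ⟨n, hn, ⟨e⟩⟩ := h
  have h7 : 7 ≤ n := by
    by_contra h7
    have h56 : n = 5 ∨ n = 6 := by omega
    rcases h56 with rfl | rfl
    · exact hL (isL2_alt_five e)
    · exact hL (isL2_alt_six e)
  obtain ⟨h1, h2, h3⟩ := H600.AltDeg.facts_alt h7 ⟨e⟩
  exact ⟨h3, h1, h2⟩

theorem psl {S : Type u} [Group S] [Finite S] [IsSimpleGroup S] (hL : ¬ IsL2 S) (h : IsPSL S) : GFacts S :=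
  ⟨H113.PSL.Main.conn_psl h hL, fun _ hp _ hq _ hr h1 h2 h3 => H113.PSL.Main.indep_psl h hL hp hq hr h1 h2 h3,
    H113.PSL.Main.tri_psl h hL⟩

theorem psu_un {S : Type u} [Group S] (h : H113.PSU.Main.IsUn S) : GFacts S :=
  ⟨H113.PSU.Main.conn_un h, fun _ hp _ hq _ hr h1 h2 h3 => H113.PSU.Main.ind_un h hp hq hr h1 h2 h3,
    H677.Tri42.tri_un h⟩

theorem psu {S : Type u} [Group S] (h3 : H113.PSU.Main.IsU3 S → GFacts S) (h : IsPSU S) : GFacts S := by
  rcases H113.PSU.Main.shape h with h | h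
  · exact h3 h
  · exact psu_un h

theorem edgeSp2 : H477.HC.EdgeSp2 := by
  intro F _ _ m hm hF
  have : CharP F 2 := by
    obtain ⟨p, hch⟩ := CharP.exists F
    obtain ⟨⟨k, hk⟩, hpp, hcard⟩ := FiniteField.card F p
    have h5 : p ^ k = 2 := by rw [← hF]; exact hcard.symm
    have h6 : p ∣ 2 := by
      rw [← h5]
      exact dvd_pow_self p hk.ne'
    have h7 := (Nat.prime_dvd_prime_iff_eq hpp Nat.prime_two).1 h6
    rwa [h7] at hch
  obtain ⟨l, -, -, hl⟩ := H996.Deg.Two.adj_PSp (F := F) hm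
  exact ⟨l, hl⟩

theorem psp {S : Type u} [Group S] [Finite S] [hs : IsSimpleGroup S] (h43 : H477.HC.TSp43) (h62 : H477.HC.TSp62)
    (h63 : H477.HC.RSp63) (h : IsPSp S) : GFacts S := by
  obtain ⟨h1, h2, h3⟩ := H477.HC.gf_psp S h hs h43 h62 h63 edgeSp2
  exact ⟨h1, h2, h3⟩

theorem omega_odd {S : Type u} [Group S] [Finite S] [hs : IsSimpleGroup S] (h : IsPOmegaOdd S) : GFacts S := by
  obtain ⟨h1, h2, h3⟩ := H477.HC.gf_omega_odd S h hs
  exact ⟨h1, h2, h3⟩

theorem omega_plus {S : Type u} [Group S] [Finite S] [hs : IsSimpleGroup S] (h : IsPOmegaPlus S) : GFacts S := by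
  obtain ⟨h1, h2, h3⟩ := H477.HC.gf_omega_plus S h hs
  exact ⟨h1, h2, h3⟩

theorem omega_minus {S : Type u} [Group S] [Finite S] [hs : IsSimpleGroup S] (hR : H477.HC.RO8m) (h : IsPOmegaMinus S) :
    GFacts S := by
  obtain ⟨h1, h2, h3⟩ := H477.HC.gf_omega_minus S h hs hR
  exact ⟨h1, h2, h3⟩

theorem suz {S : Type u} [Group S] (h : Lie.IsoSuzuki S) : GFacts S :=
  ⟨H732.DegSz.conn S h, H732.DegSz.ind S h, H732.DegSz.tri S h⟩

theorem ree {S : Type u} [Group S] (h : Lie.IsoRee S) : GFacts S :=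
  ⟨H732.DegRee.conn S h, H732.DegRee.ind S h, H732.DegRee.tri S h⟩

theorem twF4 {S : Type u} [Group S] [Finite S] [IsSimpleGroup S] (hna : ¬ IsMulCommutative S) (h : Lie.Iso2F4 S) :
    GFacts S :=
  ⟨H996.Deg.TwFFour.conn hna h, H42.Deg.F4.ind S h, H42.Deg.F4.tri S h⟩

/-- from a row of helper53 -/
theorem of_row {S : Type u} [Group S] [Finite S] (h4 : 4 ≤ (Nat.card S).primeFactors.card)
    (hc : ((degreeGraph S).induce (degreePrimes S)).Connected) (h : ExcIM.Row S) : GFacts S := by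
  obtain ⟨r, f, q, -, -, -, hB⟩ := h.bigF
  exact ⟨hc, fun _ hp _ hq _ hs h1 h2 h3 => h.ind hp hq hs h1 h2 h3, tri_of_big h4 hB.big⟩

section exc

variable {S : Type u} [Group S] [Finite S] [hs : IsSimpleGroup S] (hna : ¬ IsMulCommutative S)
  (h4 : 4 ≤ (Nat.card S).primeFactors.card)

include hna h4

theorem e8 (h : Lie.IsoE8 S) : GFacts S := of_row h4 (ExcIM.conn_E8 h hs hna) (ExcIM.row_E8 h hs)

theorem e7 (h : Lie.IsoE7 S) : GFacts S := of_row h4 (ExcIM.conn_E7 h hs hna) (ExcIM.row_E7 h hs)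

theorem e6 (h : Lie.IsoChevE6 S) : GFacts S := of_row h4 (ExcIM.conn_E6 h hs hna) (ExcIM.row_E6 h hs)

theorem twE6 (h : Lie.Iso2E6 S) : GFacts S := of_row h4 (ExcIM.conn_TwE6 h hs hna) (ExcIM.row_TwE6 h hs)

theorem f4 (h : Lie.IsoF4 S) : GFacts S := by
  refine of_row h4 (ExcIM.conn_F4 h hs hna ?_) (ExcIM.row_F4 h hs)
  rintro F _ _ hF ⟨e⟩
  have : CharP F 2 := by
    obtain ⟨p, hch⟩ := CharP.exists F
    obtain ⟨⟨k, hk⟩, hpp, hcard⟩ := FiniteField.card F p
    have h5 : p ^ k = 2 := by rw [← hF]; exact hcard.symm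
    have h6 : p ∣ 2 := by
      rw [← h5]
      exact dvd_pow_self p hk.ne'
    have h7 := (Nat.prime_dvd_prime_iff_eq hpp Nat.prime_two).1 h6
    rwa [h7] at hch
  obtain ⟨l, -, -, hl⟩ := H996.Deg.Two.adj_F4 (F := F)
  refine ⟨l, ?_⟩
  unfold Adj at hl ⊢
  rwa [H424.DegTools.degreeGraph_congr e]

end exc

end Cfsg.Agent.H671.GraphAsm
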