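import Cfsg.Agent.S0173
import Cfsg.Agent.S2331
import Cfsg.Agent.S4812
import Cfsg.Agent.H371.OutTwo

/-!
# Field automorphisms of `SL(2, 2^n)` move characters (hub H5, helper671)

`α` an automorphism of `SL(2, F)`, `F` finite of characteristic 2, `q ≥ 4`, not inner. Then some irreducible character of
degree `q - 1` is not `α`-invariant, and if `q > 4` some irreducible character of degree `q + 1` is not `α`-invariant.
-/

set_option autoImplicit false

namespace Cfsg.Agent.H671.L2Inv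

open Cfsg Matrix Cfsg.Agent.Characters.Core
open Cfsg.Agent.ClassicalGeometry.AutPSL.Root Cfsg.Agent.ClassicalGeometry.AutPSL.Auto
  Cfsg.Agent.ClassicalGeometry.AutPSL.Main

variable {F : Type} [Field F] [Fintype F] [CharP F 2]

local notation "SL2" => Matrix.SpecialLinearGroup (Fin 2) F
local notation "PSL2" => Matrix.ProjectiveSpecialLinearGroup (Fin 2) F

/-- `SL(2, F) = PSL(2, F)` in characteristic two -/
noncomputable def prE : SL2 ≃* PSL2 :=
  MulEquiv.ofBijective (pr : SL2 →* PSL2) ⟨by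
    rw [injective_iff_map_eq_one]
    intro x hx
    have h1 := (pr_eq_one_iff x).1 hx
    rw [S4812.center_eq_bot F, Subgroup.mem_bot] at h1
    exact h1, pr_surjective⟩

omit [Fintype F] in
theorem prE_apply (x : SL2) : prE x = pr x := rfl

theorem aut_form (α : MulAut SL2) : ∃ σ : F ≃+* F,
    (∀ g, S2331.inv (α g) = (S2331.inv g).map σ) ∧ (σ = 1 → ∃ x, α = MulAut.conj x) := by
  classical
  have h2 : Fact (Nat.Prime 2) := ⟨Nat.prime_two⟩
  obtain ⟨A, σ, hα⟩ := surj_two (F := F) 2 ((prE.symm.trans α).trans prE)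
  have key : ∀ g : SL2, α g = cj A (fld σ g) := by
    intro g
    apply prE.injective
    have h1 := DFunLike.congr_fun hα (prE g)
    rw [MulEquiv.trans_apply, MulEquiv.trans_apply, MulEquiv.symm_apply_apply] at h1
    rw [h1, prE_apply, lift_pr, MulAut.mul_apply, prE_apply]
  refine ⟨σ, ?_, ?_⟩
  · intro g
    by_cases hg : g = 1
    · rw [hg, map_one]
      rw [S2331.inv, if_pos rfl]
      rfl
    · have h1 : α g ≠ 1 := fun h => hg (α.injective (h.trans (map_one _).symm))
      rw [S2331.inv_of_ne h1, S2331.inv_of_ne hg]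
      show _ = some _
      congr 1
      rw [key, coe_cj, Matrix.trace_mul_cycle, ← Units.val_mul, inv_mul_cancel, Units.val_one, one_mul,
        Matrix.trace_fin_two, Matrix.trace_fin_two, coe_fld_apply, coe_fld_apply, map_add]
  · intro hσ
    subst hσ
    -- the determinant is a square
    obtain ⟨s, hs⟩ := FiniteField.isSquare_of_char_two (F := F) (ringChar.eq F 2) (A : Matrix (Fin 2) (Fin 2) F).det
    have hs0 : s ≠ 0 := by
      rintro rfl
      have h1 : (A : Matrix (Fin 2) (Fin 2) F).det ≠ 0 := by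
        have := A.det.ne_zero
        simpa using this
      apply h1
      rw [hs, mul_zero]
    obtain ⟨x, hx⟩ := H371.OutTwo.exists_inner (A := 1) (B := A) (s := Units.mk0 s hs0) (by
      rw [hs, Units.val_one, Matrix.det_one, one_mul, Units.val_mk0, pow_two])
    refine ⟨x, ?_⟩
    apply MulEquiv.ext
    intro g
    apply prE.injective
    rw [key, map_one, MulAut.one_apply, prE_apply, prE_apply, ← lift_pr, hx, map_one, map_one, mul_one,
      MulAut.conj_apply, MulAut.conj_apply, map_mul, map_mul, map_inv]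

omit [CharP F 2] in
/-- The fixed field of a non-trivial automorphism. -/
theorem card_fix {σ : F ≃+* F} (hσ : σ ≠ 1) : Nat.card {a : F // σ a = a} ^ 2 ≤ Fintype.card F := by
  classical
  let K : Subfield F := RingHom.eqLocusField (σ : F →+* F) (RingHom.id F)
  have hK : ∀ a : F, a ∈ K ↔ σ a = a := fun a => Iff.rfl
  have hc : Nat.card {a : F // σ a = a} = Nat.card K := Nat.card_congr (Equiv.refl _)
  have h1 : Nat.card F = Nat.card K ^ Module.finrank K F := by
    have : Fintype K := Fintype.ofFinite _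
    rw [Nat.card_eq_fintype_card, Nat.card_eq_fintype_card]
    exact Module.card_eq_pow_finrank
  have h2 : Module.finrank K F ≠ 0 := Module.finrank_pos.ne'
  have h3 : Module.finrank K F ≠ 1 := by
    intro h3
    rw [h3, pow_one] at h1
    apply hσ
    have h4 : Function.Surjective (Subtype.val : K → F) :=
      ((Nat.bijective_iff_injective_and_card _).2 ⟨Subtype.val_injective, h1.symm⟩).2
    apply RingEquiv.ext
    intro a
    obtain ⟨b, rfl⟩ := h4 a
    exact (hK _).1 b.2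
  rw [hc, ← Nat.card_eq_fintype_card (α := F), h1]
  exact Nat.pow_le_pow_right Nat.card_pos (by omega)

omit [CharP F 2] in
theorem two_le_card_fix (σ : F ≃+* F) : 2 ≤ Nat.card {a : F // σ a = a} := by
  have h1 : Nontrivial {a : F // σ a = a} :=
    ⟨⟨⟨0, map_zero σ⟩, ⟨1, map_one σ⟩, fun h => zero_ne_one (congrArg Subtype.val h)⟩⟩
  exact Finite.one_lt_card

/-- The number of invariant irreducible characters. -/
theorem card_inv_le (α : MulAut SL2) {σ : F ≃+* F} (hσ : ∀ g, S2331.inv (α g) = (S2331.inv g).map σ) :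
    Nat.card {χ : IrrCharacter SL2 // (χ : SL2 → ℂ) ∘ α = (χ : SL2 → ℂ)} ≤ Nat.card {a : F // σ a = a} + 1 := by
  classical
  have h0 : (Nat.card {χ : IrrCharacter SL2 // (χ : SL2 → ℂ) ∘ α = (χ : SL2 → ℂ)}) =
      Nat.card {C : ConjClasses SL2 // ConjClasses.map α.toMonoidHom C = C} := (S0173.result α).symm
  rw [h0]
  let f : {C : ConjClasses SL2 // ConjClasses.map α.toMonoidHom C = C} → Option {a : F // σ a = a} := fun C =>
    (S2331.inv C.1.out).pmap (fun a ha => ⟨a, ha⟩) (by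
      intro a ha
      obtain ⟨g, hg⟩ := C.1.exists_rep
      have h1 : IsConj (C.1.out) g := by
        rw [← ConjClasses.mk_eq_mk_iff_isConj]
        exact (Quotient.out_eq _).trans hg.symm
      have h2 : IsConj (α g) g := by
        rw [← ConjClasses.mk_eq_mk_iff_isConj]
        have h3 := C.2
        rw [← hg] at h3
        exact h3
      have h3 := (S2331.inv_eq_iff _ _).2 h1
      have h4 := (S2331.inv_eq_iff _ _).2 h2
      rw [h3] at ha
      rw [hσ, ha] at h4
      exact Option.some.inj h4)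
  have hf : Function.Injective f := by
    intro C D hCD
    apply Subtype.ext
    have h1 : S2331.inv C.1.out = S2331.inv D.1.out := by
      have h2 := congrArg (Option.map Subtype.val) hCD
      simp only [f, Option.map_pmap, Option.pmap_eq_map, Option.map_id'] at h2
      exact h2
    have h2 := (S2331.inv_eq_iff _ _).1 h1
    rw [← ConjClasses.mk_eq_mk_iff_isConj] at h2
    exact (Quotient.out_eq _).symm.trans (h2.trans (Quotient.out_eq _))
  calc Nat.card {C : ConjClasses SL2 // ConjClasses.map α.toMonoidHom C = C}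
      ≤ Nat.card (Option {a : F // σ a = a}) := Nat.card_le_card_of_injective f hf
    _ = _ := by rw [Finite.card_option]

omit [Fintype F] [CharP F 2] in
theorem inv_of_unique (α : MulAut SL2) {c : ℂ} (hc : Nat.card {χ : IrrCharacter SL2 // (χ : SL2 → ℂ) 1 = c} = 1)
    (χ : IrrCharacter SL2) (h : (χ : SL2 → ℂ) 1 = c) : (χ : SL2 → ℂ) ∘ α = (χ : SL2 → ℂ) := by
  rw [Nat.card_eq_one_iff_unique] at hc
  have hsub := hc.1
  let χ' : IrrCharacter SL2 := ⟨(χ : SL2 → ℂ) ∘ α, isIrr_comp (α : SL2 →* SL2) α.surjective χ.2⟩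
  have h1 : (χ' : SL2 → ℂ) 1 = c := by
    show (χ : SL2 → ℂ) (α 1) = c
    rw [map_one, h]
  have h2 := hsub.elim (⟨χ', h1⟩ : {χ : IrrCharacter SL2 // (χ : SL2 → ℂ) 1 = c}) ⟨χ, h⟩
  exact congrArg (fun x : {χ : IrrCharacter SL2 // (χ : SL2 → ℂ) 1 = c} => ((x : IrrCharacter SL2) : SL2 → ℂ)) h2

/-- If all characters of degree `c` are invariant, there are few of them. -/
theorem card_le (h4 : 4 ≤ Fintype.card F) (α : MulAut SL2) (hα : ∀ x, α ≠ MulAut.conj x) {c : ℂ}
    (hc1 : c ≠ 1) (hcq : c ≠ Fintype.card F)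
    (hall : ∀ χ : IrrCharacter SL2, (χ : SL2 → ℂ) 1 = c → (χ : SL2 → ℂ) ∘ α = (χ : SL2 → ℂ)) :
    ∃ k : ℕ, 2 ≤ k ∧ k ^ 2 ≤ Fintype.card F ∧
      Nat.card {χ : IrrCharacter SL2 // (χ : SL2 → ℂ) 1 = c} + 2 ≤ k + 1 := by
  classical
  obtain ⟨σ, hσ, hin⟩ := aut_form α
  have hσ1 : σ ≠ 1 := by
    intro h
    obtain ⟨x, hx⟩ := hin h
    exact hα x hx
  refine ⟨Nat.card {a : F // σ a = a}, two_le_card_fix σ, card_fix hσ1, le_trans ?_ (card_inv_le α hσ)⟩
  obtain ⟨-, h2⟩ := S2300.result (F := F)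
  obtain ⟨n1, nq, -, -⟩ := h2 h4
  have hfin : Finite (IrrCharacter SL2) := finite_irr
  have e1 : Nat.card ({χ : IrrCharacter SL2 // (χ : SL2 → ℂ) 1 = c} ⊕ ({χ : IrrCharacter SL2 // (χ : SL2 → ℂ) 1 = 1} ⊕
      {χ : IrrCharacter SL2 // (χ : SL2 → ℂ) 1 = Fintype.card F})) =
      Nat.card {χ : IrrCharacter SL2 // (χ : SL2 → ℂ) 1 = c} + 2 := by
    rw [Nat.card_sum, Nat.card_sum, n1, nq]
  rw [← e1]
  let f : ({χ : IrrCharacter SL2 // (χ : SL2 → ℂ) 1 = c} ⊕ ({χ : IrrCharacter SL2 // (χ : SL2 → ℂ) 1 = 1} ⊕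
      {χ : IrrCharacter SL2 // (χ : SL2 → ℂ) 1 = Fintype.card F})) →
      {χ : IrrCharacter SL2 // (χ : SL2 → ℂ) ∘ α = (χ : SL2 → ℂ)} := fun x =>
    match x with
    | Sum.inl χ => ⟨χ.1, hall χ.1 χ.2⟩
    | Sum.inr (Sum.inl χ) => ⟨χ.1, inv_of_unique α n1 χ.1 χ.2⟩
    | Sum.inr (Sum.inr χ) => ⟨χ.1, inv_of_unique α nq χ.1 χ.2⟩
  refine Nat.card_le_card_of_injective f ?_
  have hq1 : (Fintype.card F : ℂ) ≠ 1 := by
    intro h
    have : Fintype.card F = 1 := by exact_mod_cast h
    omega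
  have hval : ∀ {χ ψ : IrrCharacter SL2} {a b : ℂ}, (χ : SL2 → ℂ) 1 = a → (ψ : SL2 → ℂ) 1 = b → χ = ψ → a = b := by
    rintro χ ψ a b rfl rfl rfl
    rfl
  rintro (⟨χ, hχ⟩ | ⟨χ, hχ⟩ | ⟨χ, hχ⟩) (⟨ψ, hψ⟩ | ⟨ψ, hψ⟩ | ⟨ψ, hψ⟩) h
  all_goals
    have h' : χ = ψ := congrArg Subtype.val h
    have h3 := hval hχ hψ h'
  · subst h'; rfl
  · exact absurd h3 hc1
  · exact absurd h3 hcq
  · exact absurd h3.symm hc1
  · subst h'; rfl
  · exact absurd h3.symm hq1
  · exact absurd h3.symm hcq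
  · exact absurd h3 hq1
  · subst h'; rfl

/-- Some character of degree `q - 1` is moved. -/
theorem moved_minus (h4 : 4 ≤ Fintype.card F) (α : MulAut SL2) (hα : ∀ x, α ≠ MulAut.conj x) :
    ∃ χ : IrrCharacter SL2, charDegree (χ : SL2 → ℂ) = Fintype.card F - 1 ∧ (χ : SL2 → ℂ) ∘ α ≠ (χ : SL2 → ℂ) := by
  by_contra hcon
  push Not at hcon
  have hne : Fintype.card F - 1 ≠ Fintype.card F := by omega
  have hcast : ((Fintype.card F - 1 : ℕ) : ℂ) = (Fintype.card F : ℂ) - 1 := by
    rw [Nat.cast_sub (by omega), Nat.cast_one]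
  obtain ⟨k, hk2, hkq, hk⟩ := card_le h4 α hα (c := (Fintype.card F : ℂ) - 1) (by
      rw [← hcast]
      intro h
      have : Fintype.card F - 1 = 1 := by exact_mod_cast h
      omega) (by
      rw [← hcast]
      intro h
      exact hne (by exact_mod_cast h)) (by
      intro χ hχ
      refine hcon χ ?_
      rw [← hcast] at hχ
      obtain ⟨n, -, hn⟩ := isIrr_apply_one χ.2
      have : charDegree (χ : SL2 → ℂ) = n := by simp [charDegree, hn]
      rw [this]
      rw [hn] at hχ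
      exact_mod_cast hχ)
  obtain ⟨-, h2⟩ := S2300.result (F := F)
  obtain ⟨-, -, -, n4⟩ := h2 h4
  rw [n4] at hk
  have h5 : 2 * k ≤ Fintype.card F := by nlinarith
  omega

/-- Some character of degree `q + 1` is moved if `q > 4`. -/
theorem moved_plus (h4 : 4 < Fintype.card F) (α : MulAut SL2) (hα : ∀ x, α ≠ MulAut.conj x) :
    ∃ χ : IrrCharacter SL2, charDegree (χ : SL2 → ℂ) = Fintype.card F + 1 ∧ (χ : SL2 → ℂ) ∘ α ≠ (χ : SL2 → ℂ) := by
  by_contra hcon
  push Not at hcon
  have hcast : ((Fintype.card F + 1 : ℕ) : ℂ) = (Fintype.card F : ℂ) + 1 := by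
    rw [Nat.cast_add, Nat.cast_one]
  obtain ⟨k, hk2, hkq, hk⟩ := card_le h4.le α hα (c := (Fintype.card F : ℂ) + 1) (by
      rw [← hcast]
      intro h
      have : Fintype.card F + 1 = 1 := by exact_mod_cast h
      omega) (by
      rw [← hcast]
      intro h
      have : Fintype.card F + 1 = Fintype.card F := by exact_mod_cast h
      omega) (by
      intro χ hχ
      refine hcon χ ?_
      rw [← hcast] at hχ
      obtain ⟨n, -, hn⟩ := isIrr_apply_one χ.2
      have : charDegree (χ : SL2 → ℂ) = n := by simp [charDegree, hn]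
      rw [this]
      rw [hn] at hχ
      exact_mod_cast hχ)
  obtain ⟨-, h2⟩ := S2300.result (F := F)
  obtain ⟨-, -, n3, -⟩ := h2 h4.le
  rw [n3] at hk
  -- `q` even, `q - 2 ≤ 2 (k - 1)`, `k ^ 2 ≤ q`
  have hdvd : 2 ∣ Fintype.card F := by
    have h8 : (Fintype.card F : F) = 0 := FiniteField.cast_card_eq_zero F
    exact (CharP.cast_eq_zero_iff F 2 _).1 h8
  obtain ⟨m, hm⟩ := hdvd
  rw [hm] at hk hkq h4
  have h5 : (2 * m - 2) / 2 = m - 1 := by omega
  rw [h5] at hk
  have h6 : m ≤ k := by omega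
  have h7 : 2 < m := by omega
  nlinarith

/-- For `q = 4` squares of automorphisms are inner. -/
theorem sq_inner (h4 : Fintype.card F = 4) (α : MulAut SL2) : ∃ x, α * α = MulAut.conj x := by
  have hp : Fact (Nat.Prime 2) := ⟨Nat.prime_two⟩
  obtain ⟨σ, hσ, -⟩ := aut_form α
  obtain ⟨τ, hτ, hin⟩ := aut_form (α * α)
  apply hin
  have h1 : σ ^ 2 = 1 := by
    have h2 : Nat.card (F ≃+* F) = 2 :=
      Cfsg.Agent.Lib.FieldAutCard.card_ringAut (p := 2) (f := 2) (by norm_num) (by rw [h4]; norm_num)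
    rw [← h2]
    exact pow_card_eq_one'
  apply RingEquiv.ext
  intro a
  obtain ⟨g, hg⟩ := S2331.inv_surjective (some a)
  have h2 := hτ g
  rw [MulAut.mul_apply, hσ, hσ, hg] at h2
  have h3 : σ (σ a) = τ a := Option.some.inj h2
  have h4 : (σ ^ 2) a = a := by rw [h1]; rfl
  rw [← h3]
  exact h4

end Cfsg.Agent.H671.L2Inv
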